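import Cfsg.Agent.H931.KC.Alcove

/-!
# Kac coordinates of an element of the torus (S3509, helper931)

`exists_kac` : for `t` in the torus of `D.group k`, `t ^ n = 1`, `n ≠ 0` in `k`: there are `w` and Kac coordinates `c`, `c0` of degree
`n` with `cX hp t (rep w x) = ζ ^ ∑ i, x i * c i`; for a root `a ≥ 0` the root `rep w a` is trivial on `t` iff
`∀ i, a i ≠ 0 → c i = 0`, or `c0 = 0` and `∀ i, a i ≠ hr D l i → c i = 0`.
-/

set_option autoImplicit false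
set_option linter.unusedSectionVars false

namespace Cfsg.Agent.H931.KC

open CoxeterSystem Cfsg Cfsg.Lie Cfsg.Lie.ChevalleyDatum
open Cfsg.Agent.ChevalleyStructure Cfsg.Agent.ChevalleyStructure.Elts Cfsg.Agent.ChevalleyStructure.CoxeterGeom
  Cfsg.Agent.ChevalleyStructure.CoxeterGeomTypes Cfsg.Agent.ChevalleyStructure.NPerm
open Cfsg.Agent.Tits.Roots Cfsg.Agent.Tits.Core Cfsg.Agent.Nodes Cfsg.Agent.Nodes.Reps Cfsg.Agent.Nodes.BNOf
  Cfsg.Agent.Nodes.RGDChev Cfsg.Agent.Nodes.Bruhat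
open Cfsg.Agent.KFacts.RgdField Cfsg.Agent.KFacts.RgdChevCoord Cfsg.Agent.BpExc.TorCent Cfsg.Agent.BpExc.TorChev
open Cfsg.Agent.H129.TorusChar Cfsg.Agent.H129.WData

universe u

variable {D : ChevalleyDatum} {l : ℕ} {M : CoxeterMatrix (Fin l)} (hp : IsType D l M) {k : Type u} [Field k]

/-- the characters as powers of a root of unity -/
theorem exists_exp {n : ℕ} (hn : 0 < n) {ζ : k} (hζ : IsPrimitiveRoot ζ n) {t : ↥(D.group k)} (ht : t ∈ TT D k)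
    (htn : t ^ n = 1) : ∃ b : (Fin l → ℤ) →+ ℤ, ∀ x, cX hp t x = ζ ^ b x := by
  have : NeZero n := ⟨hn.ne'⟩
  have h1 : ∀ i, ∃ j : ℕ, cX hp t (sr i) = ζ ^ j := by
    intro i
    have h2 : cX hp t (sr i) ^ n = 1 := by rw [← cX_pow hp ht, htn, cX_one]
    obtain ⟨j, -, hj⟩ := hζ.eq_pow_of_pow_eq_one h2
    exact ⟨j, hj.symm⟩
  choose j hj using h1
  have hζ0 : ζ ≠ 0 := hζ.ne_zero hn.ne'
  refine ⟨psi fun i => (j i : ℤ), fun x => ?_⟩
  have h3 : cX hp t x = ∏ i, cX hp t (sr i) ^ x i := by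
    conv_lhs => unfold cX
    exact Finset.prod_congr rfl fun i _ => by rw [cX_sr]
  rw [h3, psi_apply]
  have h4 : ∀ s : Finset (Fin l), (∏ i ∈ s, cX hp t (sr i) ^ x i) = ζ ^ (∑ i ∈ s, x i * (j i : ℤ)) := by
    intro s
    classical
    induction s using Finset.induction_on with
    | empty => rw [Finset.prod_empty, Finset.sum_empty, zpow_zero]
    | insert i s hi ih =>
      rw [Finset.prod_insert hi, Finset.sum_insert hi, ih, hj, zpow_add₀ hζ0, mul_comm (x i), zpow_mul, zpow_natCast]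
  exact h4 Finset.univ

/-- **Kac coordinates.** -/
theorem exists_kac' {n : ℕ} (hn : 0 < n) {ζ : k} (hζ : IsPrimitiveRoot ζ n) {t : ↥(D.group k)} (ht : t ∈ TT D k)
    (htn : t ^ n = 1) : ∃ (w : M.Group) (c : Fin l → ℕ) (c0 : ℕ), Kac D l n c c0 ∧
      (∀ x, cX hp t (rep M.toCoxeterSystem hp.isCartan w x) = ζ ^ (∑ i, x i * (c i : ℤ))) ∧
      ∀ a, IsRoot M.toCoxeterSystem hp.isCartan a → 0 ≤ a →
        (rep M.toCoxeterSystem hp.isCartan w a ∈ Sx M.toCoxeterSystem hp.isCartan (ch hp) t ↔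
          (∀ i, a i ≠ 0 → c i = 0) ∨ (c0 = 0 ∧ ∀ i, a i ≠ hr D l i → c i = 0)) := by
  obtain ⟨b, hb⟩ := exists_exp hp hn hζ ht htn
  obtain ⟨w, c, c0, K, h⟩ := exists_alcove hp hn b
  have hζ0 : ζ ≠ 0 := hζ.ne_zero hn.ne'
  have h1 : ∀ x, cX hp t (rep M.toCoxeterSystem hp.isCartan w x) = ζ ^ (∑ i, x i * (c i : ℤ)) := by
    intro x
    obtain ⟨m, hm⟩ := h x
    have e : (∑ i, x i * (c i : ℤ)) = n * m + b (rep M.toCoxeterSystem hp.isCartan w x) := by linear_combination hm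
    rw [hb, e, zpow_add₀ hζ0, zpow_mul, zpow_natCast, hζ.pow_eq_one, one_zpow, one_mul]
  refine ⟨w, c, c0, K, h1, fun a ha h0 => ?_⟩
  rw [← dvd_iff hp K ha h0, ← hζ.zpow_eq_one_iff_dvd, ← h1, cX_root hp M.toCoxeterSystem ht (ha.act w)]
  exact ⟨fun h => h.2, fun h => ⟨ha.act w, h⟩⟩

/-- **Kac coordinates**, `k` algebraically closed. -/
theorem exists_kac [IsAlgClosed k] {n : ℕ} (hnk : (n : k) ≠ 0) {t : ↥(D.group k)} (ht : t ∈ TT D k) (htn : t ^ n = 1) :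
    ∃ (ζ : k) (w : M.Group) (c : Fin l → ℕ) (c0 : ℕ), IsPrimitiveRoot ζ n ∧ Kac D l n c c0 ∧
      (∀ x, cX hp t (rep M.toCoxeterSystem hp.isCartan w x) = ζ ^ (∑ i, x i * (c i : ℤ))) ∧
      ∀ a, IsRoot M.toCoxeterSystem hp.isCartan a → 0 ≤ a →
        (rep M.toCoxeterSystem hp.isCartan w a ∈ Sx M.toCoxeterSystem hp.isCartan (ch hp) t ↔
          (∀ i, a i ≠ 0 → c i = 0) ∨ (c0 = 0 ∧ ∀ i, a i ≠ hr D l i → c i = 0)) := by
  have hn : 0 < n := Nat.pos_of_ne_zero fun h => hnk (by rw [h, Nat.cast_zero])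
  have : NeZero (n : k) := ⟨hnk⟩
  obtain ⟨ζ, hζ⟩ := HasEnoughRootsOfUnity.exists_primitiveRoot k n
  obtain ⟨w, c, c0, h1, h2, h3⟩ := exists_kac' hp hn hζ ht htn
  exact ⟨ζ, w, c, c0, hζ, h1, h2, h3⟩

/-- not all nodes are zero -/
theorem Kac.ne {n : ℕ} {c : Fin l → ℕ} {c0 : ℕ} (K : Kac D l n c c0) (h0 : c0 = 0) : ∃ i, c i ≠ 0 := by
  by_contra h
  push Not at h
  have h1 := K.sum
  have h2 := K.pos
  rw [h0, Finset.sum_eq_zero fun i _ => by rw [h i, Nat.cast_zero, mul_zero]] at h1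
  push_cast at h1
  omega

end Cfsg.Agent.H931.KC
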