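import Cfsg.Agent.H92.NE.Fam

/-!
# Kac coordinates (S3509, helper931): the alcove lemma

`D` a tabulated datum of type `M`, `hr D l` the highest root with the coefficients `m i`.

* `exists_alcove` : for `0 < n` and an additive `b` on the root lattice there are `w`, `c : Fin l → ℕ`, `c0 : ℕ` with
  `c0 + ∑ i, c i * m i = n` and `n ∣ ∑ i, x i * c i - b (rep w x)` for all `x`.
* `dvd_iff` : for a root `a ≥ 0`: `n ∣ ∑ i, a i * c i` iff `∀ i, a i ≠ 0 → c i = 0`, or `c0 = 0` and `∀ i, a i ≠ m i → c i = 0`.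
-/

set_option autoImplicit false
set_option linter.unusedSectionVars false
set_option maxRecDepth 100000

namespace Cfsg.Agent.H931.KC

open CoxeterSystem Cfsg Cfsg.Lie Cfsg.Lie.ChevalleyDatum
open Cfsg.Agent.ChevalleyStructure Cfsg.Agent.ChevalleyStructure.Elts Cfsg.Agent.ChevalleyStructure.CoxeterGeom
  Cfsg.Agent.ChevalleyStructure.CoxeterGeomTypes Cfsg.Agent.ChevalleyStructure.NPerm
open Cfsg.Agent.Tits.Roots Cfsg.Agent.Tits.Core Cfsg.Agent.Nodes Cfsg.Agent.Nodes.Reps Cfsg.Agent.Nodes.BNOf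
  Cfsg.Agent.Nodes.RGDChev Cfsg.Agent.Nodes.Bruhat
open Cfsg.Agent.H129.TorusChar Cfsg.Agent.H129.WData
open Cfsg.Agent.H92.NE (bl bl_apply bl_comm bl_sr bl_sr_sr FormOK bl_rep)

/-- the highest root -/
def hr (D : ChevalleyDatum) (l : ℕ) : Fin l → ℤ := vec D l (D.nroots - 1)

/-- the functional with given values on the simple roots -/
def psi {l : ℕ} (c : Fin l → ℤ) : (Fin l → ℤ) →+ ℤ where
  toFun x := ∑ i, x i * c i
  map_zero' := by simp
  map_add' x y := by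
    rw [← Finset.sum_add_distrib]
    exact Finset.sum_congr rfl fun i _ => by rw [Pi.add_apply]; ring

theorem psi_apply {l : ℕ} (c x : Fin l → ℤ) : psi c x = ∑ i, x i * c i := rfl

theorem psi_sr {l : ℕ} (c : Fin l → ℤ) (i : Fin l) : psi c (sr i) = c i := by
  rw [psi_apply, Finset.sum_eq_single i]
  · rw [sr_self, one_mul]
  · intro j _ hj
    rw [sr_ne hj, zero_mul]
  · intro h
    exact absurd (Finset.mem_univ i) h

/-- an additive map is determined by its values on the simple roots -/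
theorem eq_psi {l : ℕ} (b : (Fin l → ℤ) →+ ℤ) (x : Fin l → ℤ) : b x = ∑ i, x i * b (sr i) := by
  conv_lhs => rw [IsMC.eq_sum_sr x]
  rw [map_sum]
  exact Finset.sum_congr rfl fun j _ => by rw [map_zsmul, smul_eq_mul]

/-- the checks for the highest root -/
def HROK (D : ChevalleyDatum) (l : ℕ) (Bm : Mat l) (hv v : Fin l → ℤ) (C : ℤ) : Prop :=
  FormOK D l Bm ∧ 0 < D.nroots ∧ (∀ r : Fin D.nroots, ∀ i, vec D l r i ≤ hr D l i) ∧ bl Bm (hr D l) (hr D l) ≠ 0 ∧
  (∀ i, 2 * bl Bm (hr D l) (sr i) = bl Bm (hr D l) (hr D l) * hv i) ∧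
  (∀ m, (∑ r : Fin D.nroots, (∑ j, vec D l r j * hv j) * vec D l r m) = C * hr D l m) ∧ 0 < C ∧
  (∑ j, hr D l j * hv j) = 2 ∧ (∀ i, 0 < pairing (cartanOf D l) i v)

instance (D : ChevalleyDatum) (l : ℕ) (Bm : Mat l) (hv v : Fin l → ℤ) (C : ℤ) : Decidable (HROK D l Bm hv v C) := by
  unfold HROK pairing; infer_instance

theorem ok_G2 : HROK chevG2 2 ![![2, -3], ![-3, 6]] ![0, 1] ![10, 6] 8 := by decide +kernel
theorem ok_B2 : HROK chevB2 2 ![![2, -2], ![-2, 4]] ![1, 0] ![4, 3] 6 := by decide +kernel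
theorem ok_D4 : HROK chevD4 4 ![![2, -1, 0, 0], ![-1, 2, -1, -1], ![0, -1, 2, 0], ![0, -1, 0, 2]] ![0, 1, 0, 0]
    ![6, 10, 6, 6] 12 := by decide +kernel
theorem ok_F4 : HROK chevF4 4 ![![2, -1, 0, 0], ![-1, 2, -2, 0], ![0, -2, 4, -2], ![0, 0, -2, 4]] ![0, 0, 0, 1]
    ![22, 42, 30, 16] 18 := by decide +kernel
theorem ok_E6 : HROK chevE6 6 ![![2, 0, -1, 0, 0, 0], ![0, 2, 0, -1, 0, 0], ![-1, 0, 2, -1, 0, 0],
    ![0, -1, -1, 2, -1, 0], ![0, 0, 0, -1, 2, -1], ![0, 0, 0, 0, -1, 2]] ![0, 1, 0, 0, 0, 0]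
    ![16, 22, 30, 42, 30, 16] 24 := by decide +kernel
theorem ok_E7 : HROK chevE7 7 ![![2, 0, -1, 0, 0, 0, 0], ![0, 2, 0, -1, 0, 0, 0], ![-1, 0, 2, -1, 0, 0, 0],
    ![0, -1, -1, 2, -1, 0, 0], ![0, 0, 0, -1, 2, -1, 0], ![0, 0, 0, 0, -1, 2, -1], ![0, 0, 0, 0, 0, -1, 2]]
    ![1, 0, 0, 0, 0, 0, 0] ![34, 49, 66, 96, 75, 52, 27] 36 := by decide +kernel
theorem ok_E8 : HROK chevE8 8 ![![2, 0, -1, 0, 0, 0, 0, 0], ![0, 2, 0, -1, 0, 0, 0, 0], ![-1, 0, 2, -1, 0, 0, 0, 0],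
    ![0, -1, -1, 2, -1, 0, 0, 0], ![0, 0, 0, -1, 2, -1, 0, 0], ![0, 0, 0, 0, -1, 2, -1, 0],
    ![0, 0, 0, 0, 0, -1, 2, -1], ![0, 0, 0, 0, 0, 0, -1, 2]] ![0, 0, 0, 0, 0, 0, 0, 1]
    ![92, 136, 182, 270, 220, 168, 114, 58] 60 := by decide +kernel

variable {D : ChevalleyDatum} {l : ℕ} {M : CoxeterMatrix (Fin l)} (hp : IsType D l M)

include hp in
theorem exists_ok : ∃ (Bm : Mat l) (hv v : Fin l → ℤ) (C : ℤ), HROK D l Bm hv v C := by
  have h := hp
  simp only [IsType, typeList, List.mem_cons, List.not_mem_nil, or_false, Prod.mk.injEq] at h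
  rcases h with ⟨h, e⟩ | ⟨h, e⟩ | ⟨h, e⟩ | ⟨h, e⟩ | ⟨h, e⟩ | ⟨h, e⟩ | ⟨h, e⟩ <;>
    obtain rfl := h <;> obtain rfl := congrArg Sigma.fst e
  · exact ⟨_, _, _, _, ok_G2⟩
  · exact ⟨_, _, _, _, ok_B2⟩
  · exact ⟨_, _, _, _, ok_D4⟩
  · exact ⟨_, _, _, _, ok_F4⟩
  · exact ⟨_, _, _, _, ok_E6⟩
  · exact ⟨_, _, _, _, ok_E7⟩
  · exact ⟨_, _, _, _, ok_E8⟩

section

variable {Bm : Mat l} {hv v : Fin l → ℤ} {C : ℤ} (H : HROK D l Bm hv v C)

include H in
theorem isRoot_hr : IsRoot M.toCoxeterSystem hp.isCartan (hr D l) :=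
  isRoot_vec hp M.toCoxeterSystem (Nat.sub_lt H.2.1 Nat.one_pos)

include H in
theorem le_hr {a : Fin l → ℤ} (ha : IsRoot M.toCoxeterSystem hp.isCartan a) (i : Fin l) : a i ≤ hr D l i := by
  obtain ⟨r, hr', rfl⟩ := (isRoot_iff hp M.toCoxeterSystem a).1 ha
  exact H.2.2.1 ⟨r, hr'⟩ i

include H in
/-- the reflection of the highest root -/
theorem exists_refl : ∃ u : M.Group, ∀ x, rep M.toCoxeterSystem hp.isCartan u x = x - psi hv x • hr D l := by
  obtain ⟨u, j, e⟩ := isRoot_hr hp H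
  obtain ⟨hF, -, -, h0, hc, -⟩ := H
  refine ⟨u * M.toCoxeterSystem.simple j * u⁻¹, fun x => ?_⟩
  rw [rep_mul_apply, rep_mul_apply, rep_simple_eq, map_sub, map_zsmul, rep_apply_inv, ← e]
  congr 2
  have key : ∀ z : Fin l → ℤ, 2 * bl Bm z (sr j) = Bm j j * pairing (cartanOf D l) j z := by
    intro z
    rw [bl_sr]
    unfold pairing
    rw [Finset.mul_sum, Finset.mul_sum]
    refine Finset.sum_congr rfl fun j' _ => ?_
    rw [← mul_assoc, hF.2 j j', mul_assoc]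
  have h1 := key (rep M.toCoxeterSystem hp.isCartan u⁻¹ x)
  have h2 : bl Bm (rep M.toCoxeterSystem hp.isCartan u⁻¹ x) (sr j) = bl Bm x (hr D l) := by
    rw [← bl_rep hp hF u, rep_apply_inv, ← e]
  have h3 : Bm j j = bl Bm (hr D l) (hr D l) := by
    rw [e, bl_rep hp hF, bl_sr_sr]
  have h4 : 2 * bl Bm x (hr D l) = bl Bm (hr D l) (hr D l) * psi hv x := by
    rw [bl_comm hF.1, eq_psi (bl Bm (hr D l)) x, psi_apply, Finset.mul_sum, Finset.mul_sum]
    refine Finset.sum_congr rfl fun i _ => ?_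
    have := hc i
    linear_combination x i * this
  rw [h2, h4, h3] at h1
  exact (mul_left_cancel₀ h0 h1).symm

include H in
/-- dominance -/
theorem exists_dom (b : (Fin l → ℤ) →+ ℤ) :
    ∃ w : M.Group, ∀ i, 0 ≤ b (rep M.toCoxeterSystem hp.isCartan w (sr i)) := by
  have hfin : Finite M.Group := finite_W hp M.toCoxeterSystem
  obtain ⟨w, hw⟩ := Finite.exists_max fun w : M.Group => b (rep M.toCoxeterSystem hp.isCartan w v)
  refine ⟨w, fun i => ?_⟩
  have h1 := hw (w * M.toCoxeterSystem.simple i)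
  have h2 : b (rep M.toCoxeterSystem hp.isCartan (w * M.toCoxeterSystem.simple i) v) =
      b (rep M.toCoxeterSystem hp.isCartan w v) -
        pairing (cartanOf D l) i v * b (rep M.toCoxeterSystem hp.isCartan w (sr i)) := by
    rw [rep_mul_apply, rep_simple_eq, map_sub, map_zsmul, map_sub, map_zsmul, smul_eq_mul]
  simp only [h2] at h1
  have h3 := H.2.2.2.2.2.2.2.2 i
  nlinarith

/-- the norm -/
def nm (D : ChevalleyDatum) (l : ℕ) (b : (Fin l → ℤ) →+ ℤ) : ℤ := ∑ r : Fin D.nroots, b (vec D l r) ^ 2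

theorem nm_nonneg (b : (Fin l → ℤ) →+ ℤ) : 0 ≤ nm D l b := Finset.sum_nonneg fun _ _ => sq_nonneg _

theorem nm_comp (b b' : (Fin l → ℤ) →+ ℤ) (w : M.Group)
    (h : ∀ x, b' x = b (rep M.toCoxeterSystem hp.isCartan w x)) : nm D l b' = nm D l b := by
  obtain ⟨π, hπ⟩ := Cfsg.Agent.H994.KE.exists_perm hp w
  unfold nm
  rw [← Equiv.sum_comp π (fun r => b (vec D l r) ^ 2)]
  exact Finset.sum_congr rfl fun r _ => by rw [h, hπ]

include H in
/-- the translation -/
theorem nm_lt {n : ℤ} (hn : 0 < n) {u : M.Group}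
    (hu : ∀ x, rep M.toCoxeterSystem hp.isCartan u x = x - psi hv x • hr D l) (b b' : (Fin l → ℤ) →+ ℤ)
    (h : ∀ x, b' x = b (rep M.toCoxeterSystem hp.isCartan u x) + n * psi hv x) (hb : n < b (hr D l)) :
    nm D l b' < nm D l b := by
  obtain ⟨-, -, -, -, -, hk, hC, h2, -⟩ := H
  obtain ⟨π, hπ⟩ := Cfsg.Agent.H994.KE.exists_perm hp u
  have e1 : nm D l b' = ∑ r : Fin D.nroots, (b (vec D l r) - n * psi hv (vec D l r)) ^ 2 := by
    unfold nm
    rw [← Equiv.sum_comp π (fun r => (b (vec D l r) - n * psi hv (vec D l r)) ^ 2)]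
    refine Finset.sum_congr rfl fun r _ => ?_
    rw [h, hπ, hu, map_sub (psi hv), map_zsmul (psi hv), psi_apply hv (hr D l), h2, smul_eq_mul]
    ring
  have e2 : (∑ r : Fin D.nroots, (b (vec D l r) - n * psi hv (vec D l r)) ^ 2) =
      nm D l b - 2 * n * (∑ r : Fin D.nroots, psi hv (vec D l r) * b (vec D l r)) +
        n ^ 2 * ∑ r : Fin D.nroots, psi hv (vec D l r) * psi hv (vec D l r) := by
    unfold nm
    rw [Finset.mul_sum, Finset.mul_sum, ← Finset.sum_sub_distrib, ← Finset.sum_add_distrib]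
    exact Finset.sum_congr rfl fun r _ => by ring
  have key : ∀ f : (Fin l → ℤ) →+ ℤ, (∑ r : Fin D.nroots, psi hv (vec D l r) * f (vec D l r)) = C * f (hr D l) := by
    intro f
    have h1 : (∑ r : Fin D.nroots, psi hv (vec D l r) • vec D l r) = C • hr D l := by
      funext m
      rw [Finset.sum_apply, Pi.smul_apply, smul_eq_mul, ← hk m]
      exact Finset.sum_congr rfl fun r _ => rfl
    have h3 := congrArg f h1
    rw [map_sum, map_zsmul, smul_eq_mul] at h3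
    rw [← h3]
    exact Finset.sum_congr rfl fun r _ => by rw [map_zsmul, smul_eq_mul]
  rw [e1, e2, key b, key (psi hv), psi_apply hv (hr D l), h2]
  have h5 : 0 < n * C := mul_pos hn hC
  nlinarith

end

/-- **The alcove lemma**, in terms of functionals. -/
theorem exists_alcove' {n : ℤ} (hn : 0 < n) (b : (Fin l → ℤ) →+ ℤ) :
    ∃ (w : M.Group) (b' : (Fin l → ℤ) →+ ℤ), (∀ x, n ∣ b' x - b (rep M.toCoxeterSystem hp.isCartan w x)) ∧
      (∀ i, 0 ≤ b' (sr i)) ∧ b' (hr D l) ≤ n := by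
  obtain ⟨Bm, hv, v, C, H⟩ := exists_ok hp
  obtain ⟨N, hN⟩ : ∃ N : ℕ, nm D l b < N := ⟨(nm D l b).toNat + 1, by have := nm_nonneg (D := D) b; push_cast; omega⟩
  induction N generalizing b with
  | zero =>
    have := nm_nonneg (D := D) b
    push_cast at hN
    omega
  | succ N ih =>
    obtain ⟨w, hw⟩ := exists_dom hp H b
    set b1 : (Fin l → ℤ) →+ ℤ := b.comp (rep M.toCoxeterSystem hp.isCartan w).toAddMonoidHom with hb1
    have hb1' : ∀ x, b1 x = b (rep M.toCoxeterSystem hp.isCartan w x) := fun x => rfl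
    have hn1 := nm_comp hp b b1 w hb1'
    by_cases hle : b1 (hr D l) ≤ n
    · exact ⟨w, b1, fun x => by rw [hb1', sub_self]; exact dvd_zero _, fun i => by rw [hb1']; exact hw i, hle⟩
    · obtain ⟨u, hu⟩ := exists_refl hp H
      set b2 : (Fin l → ℤ) →+ ℤ := b1.comp (rep M.toCoxeterSystem hp.isCartan u).toAddMonoidHom + n • psi hv with hb2
      have hb2' : ∀ x, b2 x = b1 (rep M.toCoxeterSystem hp.isCartan u x) + n * psi hv x := fun x => rfl
      have hlt := nm_lt hp H hn hu b1 b2 hb2' (by omega)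
      obtain ⟨w', b', h1, h2, h3⟩ := ih b2 (by push_cast at hN; omega)
      refine ⟨w * (u * w'), b', fun x => ?_, h2, h3⟩
      have h4 := h1 x
      rw [hb2', hb1'] at h4
      rw [rep_mul_apply, rep_mul_apply]
      have h5 := dvd_add h4 (Dvd.intro (psi hv (rep M.toCoxeterSystem hp.isCartan w' x)) rfl)
      have e : b' x - (b (rep M.toCoxeterSystem hp.isCartan w (rep M.toCoxeterSystem hp.isCartan u
          (rep M.toCoxeterSystem hp.isCartan w' x))) + n * psi hv (rep M.toCoxeterSystem hp.isCartan w' x)) +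
          n * psi hv (rep M.toCoxeterSystem hp.isCartan w' x) =
          b' x - b (rep M.toCoxeterSystem hp.isCartan w (rep M.toCoxeterSystem hp.isCartan u
          (rep M.toCoxeterSystem hp.isCartan w' x))) := by ring
      rwa [e] at h5

/-- Kac coordinates of degree `n` -/
structure Kac (D : ChevalleyDatum) (l : ℕ) (n : ℕ) (c : Fin l → ℕ) (c0 : ℕ) : Prop where
  pos : 0 < n
  sum : (c0 : ℤ) + ∑ i, hr D l i * c i = n

/-- **The alcove lemma.** -/
theorem exists_alcove {n : ℕ} (hn : 0 < n) (b : (Fin l → ℤ) →+ ℤ) :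
    ∃ (w : M.Group) (c : Fin l → ℕ) (c0 : ℕ), Kac D l n c c0 ∧
      ∀ x : Fin l → ℤ, (n : ℤ) ∣ (∑ i, x i * c i) - b (rep M.toCoxeterSystem hp.isCartan w x) := by
  obtain ⟨w, b', h1, h2, h3⟩ := exists_alcove' hp (n := n) (by exact_mod_cast hn) b
  choose c hc using fun i => Int.eq_ofNat_of_zero_le (h2 i)
  have hb : ∀ x : Fin l → ℤ, b' x = ∑ i, x i * c i := fun x => by
    rw [eq_psi b' x]
    exact Finset.sum_congr rfl fun i _ => by rw [hc]
  obtain ⟨c0, h0⟩ := Int.eq_ofNat_of_zero_le (sub_nonneg.2 h3)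
  refine ⟨w, c, c0, ⟨hn, ?_⟩, fun x => ?_⟩
  · rw [← h0, hb]
    ring
  · rw [← hb]
    exact h1 x

section dvd

variable {n : ℕ} {c : Fin l → ℕ} {c0 : ℕ} (K : Kac D l n c c0)

include K in
/-- **The roots of the centralizer.** -/
theorem dvd_iff {a : Fin l → ℤ} (ha : IsRoot M.toCoxeterSystem hp.isCartan a) (h0 : 0 ≤ a) :
    (n : ℤ) ∣ ∑ i, a i * c i ↔ (∀ i, a i ≠ 0 → c i = 0) ∨ (c0 = 0 ∧ ∀ i, a i ≠ hr D l i → c i = 0) := by
  obtain ⟨Bm, hv, v, C, H⟩ := exists_ok hp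
  have hle := fun i => le_hr hp H ha i
  have hpos : ∀ i, 0 ≤ a i * (c i : ℤ) := fun i => mul_nonneg (h0 i) (by positivity)
  have hpos' : ∀ i, 0 ≤ (hr D l i - a i) * (c i : ℤ) := fun i => mul_nonneg (sub_nonneg.2 (hle i)) (by positivity)
  have hn : (0 : ℤ) < n := by exact_mod_cast K.pos
  have e : (∑ i, (hr D l i - a i) * (c i : ℤ)) = (∑ i, hr D l i * c i) - ∑ i, a i * c i := by
    rw [← Finset.sum_sub_distrib]
    exact Finset.sum_congr rfl fun i _ => by ring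
  have hs1 : 0 ≤ ∑ i, a i * (c i : ℤ) := Finset.sum_nonneg fun i _ => hpos i
  have hs2 : 0 ≤ ∑ i, (hr D l i - a i) * (c i : ℤ) := Finset.sum_nonneg fun i _ => hpos' i
  have hsum := K.sum
  constructor
  · rintro ⟨m, hm⟩
    by_cases hm0 : m ≤ 0
    · left
      have hz : (∑ i, a i * (c i : ℤ)) = 0 := le_antisymm (by rw [hm]; nlinarith) hs1
      intro i hi
      have h1 := (Finset.sum_eq_zero_iff_of_nonneg fun i _ => hpos i).1 hz i (Finset.mem_univ i)
      have h2 := (mul_eq_zero.1 h1).resolve_left hi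
      exact_mod_cast h2
    · right
      have hm1 : 1 ≤ m := by omega
      have h3 : (n : ℤ) ≤ ∑ i, a i * (c i : ℤ) := by rw [hm]; nlinarith
      have h4 : (c0 : ℤ) = 0 := by
        have : (0 : ℤ) ≤ c0 := by positivity
        omega
      refine ⟨by exact_mod_cast h4, fun i hi => ?_⟩
      have hz : (∑ i, (hr D l i - a i) * (c i : ℤ)) = 0 := by omega
      have h1 := (Finset.sum_eq_zero_iff_of_nonneg fun i _ => hpos' i).1 hz i (Finset.mem_univ i)
      have h2 := (mul_eq_zero.1 h1).resolve_left (fun h => hi (by omega))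
      exact_mod_cast h2
  · rintro (h | ⟨h, h'⟩)
    · have hz : (∑ i, a i * (c i : ℤ)) = 0 := Finset.sum_eq_zero fun i _ => by
        by_cases hi : a i = 0
        · rw [hi, zero_mul]
        · rw [h i hi, Nat.cast_zero, mul_zero]
      rw [hz]
      exact dvd_zero _
    · have hz : (∑ i, (hr D l i - a i) * (c i : ℤ)) = 0 := Finset.sum_eq_zero fun i _ => by
        by_cases hi : a i = hr D l i
        · rw [hi, sub_self, zero_mul]
        · rw [h' i hi, Nat.cast_zero, mul_zero]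
      have h1 : (∑ i, a i * (c i : ℤ)) = n := by
        rw [h] at hsum
        push_cast at hsum
        omega
      rw [h1]

end dvd

end Cfsg.Agent.H931.KC
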