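import Cfsg.Agent.H931.KC.Base
import Cfsg.Agent.H384.KC.BOne

/-!
# The stabiliser factor (S3509, helper931)

* `exists_kac_pos` : the element `w` of `exists_kac` can be chosen with `0 ≤ rep w a` for `a` in the positive system `SJ`;
* `card_PP_le` : for `t` in the torus with `t ^ n = 1` the group `PP` of the elements of the Weyl group fixing `t` and the positive
  system of `Sx t` has at most as many elements as there are extended nodes of mark 1; `card_PP_le_one` (`G₂`, `F₄`, `E₈`),
  `card_PP_le_two` (`E₇`), `card_PP_le_three` (`E₆`).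
-/

set_option autoImplicit false
set_option linter.unusedSectionVars false
set_option maxRecDepth 100000

namespace Cfsg.Agent.H931.KC

open CoxeterSystem Cfsg Cfsg.Lie Cfsg.Lie.ChevalleyDatum
open Cfsg.Agent.ChevalleyStructure Cfsg.Agent.ChevalleyStructure.Elts Cfsg.Agent.ChevalleyStructure.CoxeterGeom
  Cfsg.Agent.ChevalleyStructure.CoxeterGeomTypes Cfsg.Agent.ChevalleyStructure.NPerm
open Cfsg.Agent.Tits.Roots Cfsg.Agent.Tits.Core Cfsg.Agent.Nodes Cfsg.Agent.Nodes.Reps Cfsg.Agent.Nodes.BNOf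
  Cfsg.Agent.Nodes.RGDChev Cfsg.Agent.Nodes.Bruhat
open Cfsg.Agent.KFacts.RgdField Cfsg.Agent.KFacts.RgdChevCoord Cfsg.Agent.BpExc.TorCent Cfsg.Agent.BpExc.TorChev
open Cfsg.Agent.H129.TorusChar Cfsg.Agent.H129.WData

universe u

variable {D : ChevalleyDatum} {l : ℕ} {M : CoxeterMatrix (Fin l)} (hp : IsType D l M)

include hp in
/-- the extended simple roots are different -/
theorem al_inj {i j : Option (Fin l)} (h : al D l i = al D l j) : i = j := by
  obtain ⟨Bm, hv, v, C, H⟩ := exists_ok hp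
  have key : ∀ i : Fin l, al D l none ≠ al D l (some i) := by
    intro i h
    have h1 := congrFun h i
    have h2 : -hr D l i = (sr i : Fin l → ℤ) i := h1
    have h3 := le_hr hp H (isRoot_sr M.toCoxeterSystem hp.isCartan i) i
    rw [sr_self] at h2 h3
    omega
  cases i with
  | none =>
    cases j with
    | none => rfl
    | some j => exact absurd h (key j)
  | some i =>
    cases j with
    | none => exact absurd h.symm (key i)
    | some j =>
      by_contra hij
      have hij' : i ≠ j := fun h => hij (congrArg some h)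
      have h1 := congrFun h i
      have h2 : (sr i : Fin l → ℤ) i = (sr j : Fin l → ℤ) i := h1
      rw [sr_self, sr_ne hij'] at h2
      exact one_ne_zero h2

/-- an element permuting the extended simple roots and fixing `hr` is trivial -/
theorem eq_one_of_none {v : M.Group} {π : Equiv.Perm (Option (Fin l))}
    (h : ∀ i, rep M.toCoxeterSystem hp.isCartan v (al D l i) = al D l (π i))
    (h0 : rep M.toCoxeterSystem hp.isCartan v (al D l none) = al D l none) : v = 1 := by
  have h1 : π none = none := by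
    refine al_inj hp ?_
    rw [← h, h0]
  refine eq_one_of_nonneg M.toCoxeterSystem hp.isCartan v fun i => ?_
  have h2 : π (some i) ≠ none := fun h3 => by
    have := π.injective (h3.trans h1.symm)
    exact absurd this (by simp)
  obtain ⟨j, hj⟩ := Option.ne_none_iff_exists'.1 h2
  have h3 := h (some i)
  rw [hj] at h3
  have h4 : rep M.toCoxeterSystem hp.isCartan v (sr i) = sr j := h3
  have h5 : (0 : Fin l → ℤ) ≤ sr j := sr_nonneg j
  rw [← h4] at h5
  exact h5

/-- the roots with nonzero height -/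
theorem psi_one_ne {a : Fin l → ℤ} (ha : IsRoot M.toCoxeterSystem hp.isCartan a) :
    psi (fun _ : Fin l => (1 : ℤ)) a ≠ 0 := by
  rcases ha.pos_or_neg with h0 | h0
  · have := H384.KC.ht_pos hp ha h0
    omega
  · have := H384.KC.ht_pos hp ha.neg (neg_nonneg.2 h0)
    rw [map_neg] at this
    omega

theorem nonneg_of_psi_one {a : Fin l → ℤ} (ha : IsRoot M.toCoxeterSystem hp.isCartan a)
    (h : 0 < psi (fun _ : Fin l => (1 : ℤ)) a) : 0 ≤ a := by
  rcases ha.pos_or_neg with h0 | h0
  · exact h0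
  · have := H384.KC.ht_pos hp ha.neg (neg_nonneg.2 h0)
    rw [map_neg] at this
    omega

variable {k : Type u} [Field k]

/-- **Kac coordinates**, with the positive system. -/
theorem exists_kac_pos {n : ℕ} (hn : 0 < n) {ζ : k} (hζ : IsPrimitiveRoot ζ n) {t : ↥(D.group k)} (ht : t ∈ TT D k)
    (htn : t ^ n = 1) : ∃ (w : M.Group) (c : Fin l → ℕ) (c0 : ℕ), Kac D l n c c0 ∧
      (∀ x, cX hp t (rep M.toCoxeterSystem hp.isCartan w x) = ζ ^ bb c x) ∧
      ∀ a, SJ hp n c a → 0 ≤ rep M.toCoxeterSystem hp.isCartan w a := by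
  obtain ⟨w, c, c0, K, h1, -⟩ := exists_kac' hp hn hζ ht htn
  have hζ0 : ζ ≠ 0 := hζ.ne_zero hn.ne'
  obtain ⟨u, hu, hpos⟩ := H384.KC.exists_std' hp K
    (f := (psi (fun _ : Fin l => (1 : ℤ))).comp (rep M.toCoxeterSystem hp.isCartan w).toAddMonoidHom)
    (fun a ha _ => psi_one_ne hp (ha.act w))
  refine ⟨w * u, c, c0, K, fun x => ?_, fun a ha => ?_⟩
  · rw [rep_mul_apply]
    have h2 : cX hp t (rep M.toCoxeterSystem hp.isCartan w (rep M.toCoxeterSystem hp.isCartan u x)) =
      ζ ^ bb c (rep M.toCoxeterSystem hp.isCartan u x) := h1 _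
    obtain ⟨m, hm⟩ : (n : ℤ) ∣ bb c (rep M.toCoxeterSystem hp.isCartan u x) - bb c x := H384.KC.stab_WJ hp K hu x
    have e : bb c (rep M.toCoxeterSystem hp.isCartan u x) = n * m + bb c x := by linear_combination hm
    rw [h2, e, zpow_add₀ hζ0, zpow_mul, zpow_natCast, hζ.pow_eq_one, one_zpow, one_mul]
  · have h2 := hpos a ha
    rw [rep_mul_apply]
    exact nonneg_of_psi_one hp ((ha.1.act u).act w) h2

/-- the characters of `t` for an element of `PP` -/
theorem cX_PP [Finite M.Group] {t : ↥(D.group k)} (ht : t ∈ TT D k) {w : M.Group}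
    (hw : w ∈ PP M.toCoxeterSystem hp.isCartan (ch hp) t) (x : Fin l → ℤ) :
    cX hp t (rep M.toCoxeterSystem hp.isCartan w x) = cX hp t x := by
  refine ((isMC_cX hp ht).comp (rep M.toCoxeterSystem hp.isCartan w).toAddMonoidHom).ext (isMC_cX hp ht) (fun i => ?_) x
  have h1 := (mem_PP.1 hw).1 (sr i) (isRoot_sr _ _ i)
  show cX hp t (rep M.toCoxeterSystem hp.isCartan w (sr i)) = _
  rw [cX_root hp M.toCoxeterSystem ht ((isRoot_sr M.toCoxeterSystem hp.isCartan i).act w),
    cX_root hp M.toCoxeterSystem ht (isRoot_sr M.toCoxeterSystem hp.isCartan i), h1]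

/-- **The stabiliser factor.** -/
theorem card_PP_le' [Finite M.Group] {n : ℕ} (hn : 0 < n) {ζ : k} (hζ : IsPrimitiveRoot ζ n) {t : ↥(D.group k)}
    (ht : t ∈ TT D k) (htn : t ^ n = 1) :
    Nat.card ↥(PP M.toCoxeterSystem hp.isCartan (ch hp) t) ≤ Nat.card {j : Option (Fin l) // mk D l j = 1} := by
  obtain ⟨w, c, c0, K, h1, h2⟩ := exists_kac_pos hp hn hζ ht htn
  have hζ0 : ζ ≠ 0 := hζ.ne_zero hn.ne'
  -- the conjugate
  have hstab : ∀ y : ↥(PP M.toCoxeterSystem hp.isCartan (ch hp) t), ∀ x,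
      (n : ℤ) ∣ bb c (rep M.toCoxeterSystem hp.isCartan (w⁻¹ * y * w) x) - bb c x := by
    intro y x
    rw [← hζ.zpow_eq_one_iff_dvd, zpow_sub₀ hζ0, ← h1, ← h1, rep_mul_apply, rep_mul_apply, rep_apply_inv,
      cX_PP hp ht y.2, div_self ((isMC_cX hp ht).ne_zero _)]
  have hSJ : ∀ y : ↥(PP M.toCoxeterSystem hp.isCartan (ch hp) t), ∀ a, SJ hp n c a →
      SJ hp n c (rep M.toCoxeterSystem hp.isCartan (w⁻¹ * y * w) a) := by
    intro y a ha
    have hr1 : IsRoot M.toCoxeterSystem hp.isCartan (rep M.toCoxeterSystem hp.isCartan (w⁻¹ * y * w) a) := ha.1.act _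
    have hd : (n : ℤ) ∣ bb c (rep M.toCoxeterSystem hp.isCartan (w⁻¹ * y * w) a) := by
      have h3 := dvd_add (hstab y a) (SJ_dvd hp K ha)
      rwa [sub_add_cancel] at h3
    have hwa : rep M.toCoxeterSystem hp.isCartan w a ∈ Sx M.toCoxeterSystem hp.isCartan (ch hp) t := by
      refine ⟨ha.1.act w, ?_⟩
      rw [← cX_root hp M.toCoxeterSystem ht (ha.1.act w), h1, hζ.zpow_eq_one_iff_dvd]
      exact SJ_dvd hp K ha
    have hpos := (mem_PP.1 y.2).2 _ hwa (h2 a ha)
    have e : rep M.toCoxeterSystem hp.isCartan w (rep M.toCoxeterSystem hp.isCartan (w⁻¹ * y * w) a) =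
        rep M.toCoxeterSystem hp.isCartan y (rep M.toCoxeterSystem hp.isCartan w a) := by
      rw [rep_mul_apply, rep_mul_apply, rep_apply_inv]
    rw [← e] at hpos
    rcases (dvd_iff_SJ hp K hr1).1 hd with h3 | h3
    · exact h3
    · exfalso
      have h4 := h2 _ h3
      rw [map_neg] at h4
      exact (hr1.act w).not_pos_neg hpos (neg_nonneg.1 h4)
  have hdiag := fun y => diag hp K (hstab y) (hSJ y)
  choose π hπ hπ' using hdiag
  have hmk : ∀ y, mk D l (π y none) = 1 := fun y => mk_perm hp (hπ y) none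
  refine Nat.card_le_card_of_injective (fun y => ⟨π y none, hmk y⟩) fun y y' h => ?_
  have h3 : π y none = π y' none := congrArg Subtype.val h
  -- the quotient
  set z := (w⁻¹ * (y : M.Group) * w)⁻¹ * (w⁻¹ * (y' : M.Group) * w) with hz
  have hz1 : z = w⁻¹ * ((y⁻¹ * y' : ↥(PP M.toCoxeterSystem hp.isCartan (ch hp) t)) : M.Group) * w := by
    rw [hz, Subgroup.coe_mul, Subgroup.coe_inv]
    group
  have h4 : z = 1 := by
    have h5 : ∀ i, rep M.toCoxeterSystem hp.isCartan z (al D l i) = al D l (π (y⁻¹ * y') i) := fun i => by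
      rw [hz1]
      exact hπ (y⁻¹ * y') i
    refine eq_one_of_none hp h5 ?_
    rw [hz, rep_mul_apply, hπ y' none, ← h3, ← hπ y none, rep_inv_apply]
  have h6 : (y : M.Group) = y' := by
    have h7 : w⁻¹ * (y : M.Group) * w = w⁻¹ * (y' : M.Group) * w := by
      rw [hz] at h4
      exact inv_mul_eq_one.1 h4
    exact mul_left_cancel (mul_right_cancel h7)
  exact Subtype.ext h6

/-- **The stabiliser factor**, `k` algebraically closed. -/
theorem card_PP_le [Finite M.Group] [IsAlgClosed k] {n : ℕ} (hnk : (n : k) ≠ 0) {t : ↥(D.group k)} (ht : t ∈ TT D k)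
    (htn : t ^ n = 1) :
    Nat.card ↥(PP M.toCoxeterSystem hp.isCartan (ch hp) t) ≤ Nat.card {j : Option (Fin l) // mk D l j = 1} := by
  have hn : 0 < n := Nat.pos_of_ne_zero fun h => hnk (by rw [h, Nat.cast_zero])
  have : NeZero (n : k) := ⟨hnk⟩
  obtain ⟨ζ, hζ⟩ := HasEnoughRootsOfUnity.exists_primitiveRoot k n
  exact card_PP_le' hp hn hζ ht htn

/-- the number of the nodes of mark 1 -/
def nmk (D : ChevalleyDatum) (l : ℕ) : ℕ := (Finset.univ.filter fun j : Option (Fin l) => mk D l j = 1).card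

theorem card_mk : Nat.card {j : Option (Fin l) // mk D l j = 1} = nmk D l := by
  unfold nmk
  rw [Nat.card_eq_fintype_card, Fintype.card_subtype]

theorem nmk_G2 : nmk chevG2 2 = 1 := by decide +kernel
theorem nmk_B2 : nmk chevB2 2 = 2 := by decide +kernel
theorem nmk_D4 : nmk chevD4 4 = 4 := by decide +kernel
theorem nmk_F4 : nmk chevF4 4 = 1 := by decide +kernel
theorem nmk_E6 : nmk chevE6 6 = 3 := by decide +kernel
theorem nmk_E7 : nmk chevE7 7 = 2 := by decide +kernel
theorem nmk_E8 : nmk chevE8 8 = 1 := by decide +kernel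

end Cfsg.Agent.H931.KC
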