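import Cfsg.Agent.H931.KC.PPCard

/-!
# The action on the base of the centralizer (S3509, helper931)

`exists_kac_theta` : for `t` in the torus with `t ^ n = 1` and an automorphism `θ` of the root lattice preserving `Sx t` and its
positive part there are Kac coordinates as in `exists_kac_pos` and a permutation `π` of `{j | ct c c0 j = 0}` with
`θ (rep w (al j)) = rep w (al (π j))`; `form_pi` : `π` preserves the form if `θ` does.
-/

set_option autoImplicit false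
set_option linter.unusedSectionVars false

namespace Cfsg.Agent.H931.KC

open CoxeterSystem Cfsg Cfsg.Lie Cfsg.Lie.ChevalleyDatum
open Cfsg.Agent.ChevalleyStructure Cfsg.Agent.ChevalleyStructure.Elts Cfsg.Agent.ChevalleyStructure.CoxeterGeom
  Cfsg.Agent.ChevalleyStructure.CoxeterGeomTypes Cfsg.Agent.ChevalleyStructure.NPerm
open Cfsg.Agent.Tits.Roots Cfsg.Agent.Tits.Core Cfsg.Agent.Nodes Cfsg.Agent.Nodes.Reps Cfsg.Agent.Nodes.BNOf
  Cfsg.Agent.Nodes.RGDChev Cfsg.Agent.Nodes.Bruhat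
open Cfsg.Agent.KFacts.RgdField Cfsg.Agent.KFacts.RgdChevCoord Cfsg.Agent.BpExc.TorCent Cfsg.Agent.BpExc.TorChev
open Cfsg.Agent.H129.TorusChar Cfsg.Agent.H129.WData
open Cfsg.Agent.H92.NE (bl FormOK bl_rep)

universe u

variable {D : ChevalleyDatum} {l : ℕ} {M : CoxeterMatrix (Fin l)} (hp : IsType D l M) {k : Type u} [Field k]

/-- a map preserving a finite set of positive roots has an inverse preserving it -/
theorem pos_symm {χ : (Fin l → ℤ) → ↥(D.group k) → k} {t : ↥(D.group k)} {θ : (Fin l → ℤ) ≃+ (Fin l → ℤ)}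
    (stab : ∀ a, θ a ∈ Sx M.toCoxeterSystem hp.isCartan χ t ↔ a ∈ Sx M.toCoxeterSystem hp.isCartan χ t)
    (pos : ∀ a ∈ Sx M.toCoxeterSystem hp.isCartan χ t, 0 ≤ a → 0 ≤ θ a) (a : Fin l → ℤ)
    (ha : a ∈ Sx M.toCoxeterSystem hp.isCartan χ t) (h0 : 0 ≤ a) : 0 ≤ θ.symm a := by
  have hW := finite_W hp M.toCoxeterSystem
  have hfin : Finite {a : Fin l → ℤ // a ∈ Sx M.toCoxeterSystem hp.isCartan χ t ∧ 0 ≤ a} := by
    have h1 : {a : Fin l → ℤ | a ∈ Sx M.toCoxeterSystem hp.isCartan χ t ∧ 0 ≤ a}.Finite := by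
      have h2 : (Set.range fun r : Fin D.nroots => vec D l r).Finite := Set.finite_range _
      refine h2.subset fun a ha => ?_
      obtain ⟨r, hr, e⟩ := (isRoot_iff hp M.toCoxeterSystem a).1 ha.1.1
      exact ⟨⟨r, hr⟩, e⟩
    exact h1
  let F : {a : Fin l → ℤ // a ∈ Sx M.toCoxeterSystem hp.isCartan χ t ∧ 0 ≤ a} →
      {a : Fin l → ℤ // a ∈ Sx M.toCoxeterSystem hp.isCartan χ t ∧ 0 ≤ a} := fun a =>
    ⟨θ a.1, (stab a.1).2 a.2.1, pos a.1 a.2.1 a.2.2⟩
  have hinj : Function.Injective F := fun a b h => Subtype.ext (θ.injective (congrArg Subtype.val h))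
  obtain ⟨b, hb⟩ := (Finite.injective_iff_surjective.1 hinj) ⟨a, ha, h0⟩
  have h1 : θ b.1 = a := congrArg Subtype.val hb
  rw [← h1, θ.symm_apply_apply]
  exact b.2.2

/-- **Kac coordinates and the action of `θ` on the base.** -/
theorem exists_kac_theta {n : ℕ} (hn : 0 < n) {ζ : k} (hζ : IsPrimitiveRoot ζ n) {t : ↥(D.group k)} (ht : t ∈ TT D k)
    (htn : t ^ n = 1) {θ : (Fin l → ℤ) ≃+ (Fin l → ℤ)}
    (stab : ∀ a, θ a ∈ Sx M.toCoxeterSystem hp.isCartan (ch hp) t ↔ a ∈ Sx M.toCoxeterSystem hp.isCartan (ch hp) t)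
    (pos : ∀ a ∈ Sx M.toCoxeterSystem hp.isCartan (ch hp) t, 0 ≤ a → 0 ≤ θ a) :
    ∃ (w : M.Group) (c : Fin l → ℕ) (c0 : ℕ), Kac D l n c c0 ∧
      (∀ x, cX hp t (rep M.toCoxeterSystem hp.isCartan w x) = ζ ^ bb c x) ∧
      (∀ a, rep M.toCoxeterSystem hp.isCartan w a ∈ Sx M.toCoxeterSystem hp.isCartan (ch hp) t ∧
        0 ≤ rep M.toCoxeterSystem hp.isCartan w a ↔ SJ hp n c a) ∧
      ∃ π : Equiv.Perm {j : Option (Fin l) // ct c c0 j = 0}, ∀ j,
        θ (rep M.toCoxeterSystem hp.isCartan w (al D l j.1)) = rep M.toCoxeterSystem hp.isCartan w (al D l (π j).1) := by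
  obtain ⟨w, c, c0, K, h1, h2⟩ := exists_kac_pos hp hn hζ ht htn
  -- the positive system
  have hSx : ∀ a, IsRoot M.toCoxeterSystem hp.isCartan a →
      (rep M.toCoxeterSystem hp.isCartan w a ∈ Sx M.toCoxeterSystem hp.isCartan (ch hp) t ↔ (n : ℤ) ∣ bb c a) := by
    intro a ha
    rw [← hζ.zpow_eq_one_iff_dvd, ← h1, cX_root hp M.toCoxeterSystem ht (ha.act w)]
    exact ⟨fun h => h.2, fun h => ⟨ha.act w, h⟩⟩
  have hroot : ∀ a, IsRoot M.toCoxeterSystem hp.isCartan (rep M.toCoxeterSystem hp.isCartan w a) →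
      IsRoot M.toCoxeterSystem hp.isCartan a := by
    intro a ha
    have := ha.act w⁻¹
    rwa [rep_inv_apply] at this
  have hSJ : ∀ a, rep M.toCoxeterSystem hp.isCartan w a ∈ Sx M.toCoxeterSystem hp.isCartan (ch hp) t ∧
      0 ≤ rep M.toCoxeterSystem hp.isCartan w a ↔ SJ hp n c a := by
    intro a
    constructor
    · rintro ⟨h3, h4⟩
      have h5 := hroot a h3.1
      rcases (dvd_iff_SJ hp K h5).1 ((hSx a h5).1 h3) with h6 | h6
      · exact h6
      · exfalso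
        have h7 := h2 _ h6
        rw [map_neg] at h7
        exact (h5.act w).not_pos_neg h4 (neg_nonneg.1 h7)
    · intro h3
      exact ⟨(hSx a h3.1).2 (SJ_dvd hp K h3), h2 a h3⟩
  refine ⟨w, c, c0, K, h1, hSJ, ?_⟩
  -- the conjugate of `θ`
  set f : (Fin l → ℤ) →+ (Fin l → ℤ) := (rep M.toCoxeterSystem hp.isCartan w⁻¹).toAddMonoidHom.comp
    (θ.toAddMonoidHom.comp (rep M.toCoxeterSystem hp.isCartan w).toAddMonoidHom) with hf
  set f' : (Fin l → ℤ) →+ (Fin l → ℤ) := (rep M.toCoxeterSystem hp.isCartan w⁻¹).toAddMonoidHom.comp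
    (θ.symm.toAddMonoidHom.comp (rep M.toCoxeterSystem hp.isCartan w).toAddMonoidHom) with hf'
  have e1 : ∀ x, rep M.toCoxeterSystem hp.isCartan w (f x) = θ (rep M.toCoxeterSystem hp.isCartan w x) := fun x =>
    rep_apply_inv _ _ _ _
  have e2 : ∀ x, rep M.toCoxeterSystem hp.isCartan w (f' x) = θ.symm (rep M.toCoxeterSystem hp.isCartan w x) := fun x =>
    rep_apply_inv _ _ _ _
  have hinj := rep_injective_apply M.toCoxeterSystem hp.isCartan w
  have hff : ∀ x, f' (f x) = x := fun x => by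
    apply hinj
    rw [e2, e1, θ.symm_apply_apply]
  have hS : ∀ x, SJ hp n c x → SJ hp n c (f x) := fun x hx => by
    obtain ⟨h3, h4⟩ := (hSJ x).2 hx
    refine (hSJ (f x)).1 ?_
    rw [e1]
    exact ⟨(stab _).2 h3, pos _ h3 h4⟩
  have hS' : ∀ x, SJ hp n c x → SJ hp n c (f' x) := fun x hx => by
    obtain ⟨h3, h4⟩ := (hSJ x).2 hx
    refine (hSJ (f' x)).1 ?_
    rw [e2]
    refine ⟨?_, pos_symm hp stab pos _ h3 h4⟩
    rw [← stab, θ.apply_symm_apply]
    exact h3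
  obtain ⟨π, hπ⟩ := base_perm hp K hff hS hS'
  exact ⟨π, fun j => by rw [← hπ, e1]⟩

/-- the permutation of the base preserves the form -/
theorem form_pi {Bm : Mat l} (hF : FormOK D l Bm) {θ : (Fin l → ℤ) ≃+ (Fin l → ℤ)}
    (hθ : ∀ x y, bl Bm (θ x) (θ y) = bl Bm x y) {w : M.Group} {c : Fin l → ℕ} {c0 : ℕ}
    {π : Equiv.Perm {j : Option (Fin l) // ct c c0 j = 0}}
    (hπ : ∀ j, θ (rep M.toCoxeterSystem hp.isCartan w (al D l j.1)) =
      rep M.toCoxeterSystem hp.isCartan w (al D l (π j).1)) (i j : {j : Option (Fin l) // ct c c0 j = 0}) :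
    bl Bm (al D l (π i).1) (al D l (π j).1) = bl Bm (al D l i.1) (al D l j.1) := by
  rw [← bl_rep hp hF w, ← hπ, ← hπ, hθ, bl_rep hp hF w]

end Cfsg.Agent.H931.KC
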