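import Cfsg.Agent.H931.KC.Rigid

/-!
# The base of the centralizer (S3509, helper931)

`b = bb c`, Kac coordinates `c`, `c0` of degree `n`; `J = {j | ct c c0 j = 0}`.
* `SJ_iff` : the positive system consists of the roots `∑_{j ∈ J} m j • al j` with `0 ≤ m j` (`exists_coef`, `SJ_al`);
* `base_perm` : an automorphism `θ` of the root lattice with `θ(SJ) ⊆ SJ`, preserving `{x | n ∣ b x}`, permutes `{al j | j ∈ J}`.
-/

set_option autoImplicit false
set_option linter.unusedSectionVars false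

namespace Cfsg.Agent.H931.KC

open CoxeterSystem Cfsg Cfsg.Lie Cfsg.Lie.ChevalleyDatum
open Cfsg.Agent.ChevalleyStructure Cfsg.Agent.ChevalleyStructure.Elts Cfsg.Agent.ChevalleyStructure.CoxeterGeom
  Cfsg.Agent.ChevalleyStructure.CoxeterGeomTypes Cfsg.Agent.ChevalleyStructure.NPerm
open Cfsg.Agent.Tits.Roots Cfsg.Agent.Tits.Core Cfsg.Agent.Nodes Cfsg.Agent.Nodes.Reps Cfsg.Agent.Nodes.BNOf
  Cfsg.Agent.Nodes.RGDChev Cfsg.Agent.Nodes.Bruhat
open Cfsg.Agent.H129.TorusChar Cfsg.Agent.H129.WData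

variable {D : ChevalleyDatum} {l : ℕ} {M : CoxeterMatrix (Fin l)} (hp : IsType D l M)
  {n : ℕ} {c : Fin l → ℕ} {c0 : ℕ} (K : Kac D l n c c0)

/-- the value of an affine weight in coordinates -/
theorem val_eq (hsum : (c0 : ℤ) + ∑ i, hr D l i * c i = n) (z : (Fin l → ℤ) × ℤ) :
    bb c z.1 + n * z.2 = ∑ j, crd D l z j * ct c c0 j := by
  rw [Fintype.sum_option]
  show (∑ i, z.1 i * (c i : ℤ)) + n * z.2 = z.2 * c0 + ∑ i, (z.1 i + z.2 * hr D l i) * (c i : ℤ)
  have h1 : (∑ i, (z.1 i + z.2 * hr D l i) * (c i : ℤ)) = (∑ i, z.1 i * (c i : ℤ)) + z.2 * ∑ i, hr D l i * c i := by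
    rw [Finset.mul_sum, ← Finset.sum_add_distrib]
    exact Finset.sum_congr rfl fun i _ => by ring
  rw [h1]
  linear_combination (-z.2) * hsum

/-- the level of a root of the positive system -/
def lev (n : ℕ) (c : Fin l → ℕ) (x : Fin l → ℤ) : ℤ := -(bb c x / n)

include K in
theorem SJ_pos {x : Fin l → ℤ} (hx : SJ hp n c x) : Pos hp (x, lev n c x) ∧ bb c x + n * lev n c x = 0 := by
  have hn : (0 : ℤ) < n := by exact_mod_cast K.pos
  obtain ⟨h1, ⟨h2, h3⟩ | h2⟩ := hx
  · have h4 : lev n c x = 0 := by unfold lev; rw [h2, Int.zero_ediv, neg_zero]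
    rw [h4]
    exact ⟨⟨h1, Or.inr ⟨rfl, h3⟩⟩, by rw [h2]; ring⟩
  · have h4 : lev n c x = 1 := by
      unfold lev
      rw [h2, Int.neg_ediv_of_dvd (dvd_refl _), Int.ediv_self hn.ne', neg_neg]
    rw [h4]
    exact ⟨⟨h1, Or.inl Int.one_pos⟩, by rw [h2]; ring⟩

include K in
/-- **Coefficients.** -/
theorem exists_coef {x : Fin l → ℤ} (hx : SJ hp n c x) : ∃ m : Option (Fin l) → ℤ, (∀ j, 0 ≤ m j) ∧
    (∀ j, m j ≠ 0 → ct c c0 j = 0) ∧ x = ∑ j, m j • al D l j := by
  obtain ⟨h1, h2⟩ := SJ_pos hp K hx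
  refine ⟨crd D l (x, lev n c x), crd_nonneg hp h1, fun j hj => ?_, ?_⟩
  · have h3 := val_eq K.sum (x, lev n c x)
    rw [h2] at h3
    have h4 := (Finset.sum_eq_zero_iff_of_nonneg fun i _ =>
      mul_nonneg (crd_nonneg hp h1 i) (Int.natCast_nonneg (ct c c0 i))).1 h3.symm j (Finset.mem_univ j)
    exact_mod_cast (mul_eq_zero.1 h4).resolve_left hj
  · have h3 := congrArg Prod.fst (sum_crd (D := D) (x, lev n c x))
    rw [Prod.fst_sum] at h3
    refine h3.symm.trans (Finset.sum_congr rfl fun j _ => ?_)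
    rw [Prod.smul_fst, ea_fst]

include K in
/-- the base belongs to the positive system -/
theorem SJ_al {j : Option (Fin l)} (hj : ct c c0 j = 0) : SJ hp n c (al D l j) := by
  have h1 := pos_ea hp j
  rw [← ea_fst]
  refine SJ_of_val hp K h1 ?_
  rw [val_eq K.sum]
  refine Finset.sum_eq_zero fun i _ => ?_
  rw [crd_ea]
  by_cases h : j = i
  · subst h
    rw [hj, Nat.cast_zero, mul_zero]
  · rw [if_neg h, zero_mul]

include K in
/-- the roots with `n ∣ b a` are the positive system and its negative -/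
theorem dvd_iff_SJ {a : Fin l → ℤ} (ha : IsRoot M.toCoxeterSystem hp.isCartan a) :
    (n : ℤ) ∣ bb c a ↔ SJ hp n c a ∨ SJ hp n c (-a) := by
  have hn : (0 : ℤ) < n := by exact_mod_cast K.pos
  constructor
  · rintro ⟨m, hm⟩
    have h1 := bb_le hp K ha
    have h2 := bb_le hp K ha.neg
    rw [map_neg] at h2
    have h3 : m ≤ 1 := by nlinarith
    have h4 : -1 ≤ m := by nlinarith
    have h5 : m = -1 ∨ m = 0 ∨ m = 1 := by omega
    rcases h5 with rfl | rfl | rfl
    · exact Or.inl ⟨ha, Or.inr (by rw [hm]; ring)⟩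
    · rw [mul_zero] at hm
      rcases ha.pos_or_neg with h6 | h6
      · exact Or.inl ⟨ha, Or.inl ⟨hm, h6⟩⟩
      · exact Or.inr ⟨ha.neg, Or.inl ⟨by rw [map_neg, hm, neg_zero], neg_nonneg.2 h6⟩⟩
    · exact Or.inr ⟨ha.neg, Or.inr (by rw [map_neg, hm]; ring)⟩
  · rintro (⟨-, ⟨h, -⟩ | h⟩ | ⟨-, ⟨h, -⟩ | h⟩)
    · rw [h]; exact dvd_zero _
    · rw [h]; exact ⟨-1, by ring⟩
    · rw [map_neg, neg_eq_zero] at h; rw [h]; exact dvd_zero _
    · rw [map_neg] at h; exact ⟨1, by linear_combination -h⟩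

/-- `x` and `-x` are not both in the positive system -/
theorem SJ_not_neg (K : Kac D l n c c0) {a : Fin l → ℤ} (h : SJ hp n c a) : ¬ SJ hp n c (-a) := by
  have hn : (0 : ℤ) < n := by exact_mod_cast K.pos
  rintro ⟨-, h2⟩
  obtain ⟨h0, h1⟩ := h
  rw [map_neg] at h2
  rcases h1 with ⟨h3, h4⟩ | h3
  · rcases h2 with ⟨h5, h6⟩ | h5
    · exact h0.not_pos_neg h4 (neg_nonneg.1 h6)
    · omega
  · rcases h2 with ⟨h5, h6⟩ | h5 <;> omega

section theta

variable {θ θ' : (Fin l → ℤ) →+ (Fin l → ℤ)}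

/-- the height with respect to the base, on `{x | n ∣ b x}` -/
def htJ (D : ChevalleyDatum) (l n : ℕ) (c : Fin l → ℕ) (x : Fin l → ℤ) : ℤ := aht D l (x, lev n c x)

theorem lev_add {x y : Fin l → ℤ} (hx : (n : ℤ) ∣ bb c x) : lev n c (x + y) = lev n c x + lev n c y := by
  unfold lev
  rw [map_add, Int.add_ediv_of_dvd_left hx]
  ring

theorem lev_zero : lev n c 0 = 0 := by
  unfold lev
  rw [map_zero, Int.zero_ediv, neg_zero]

theorem htJ_add {x y : Fin l → ℤ} (hx : (n : ℤ) ∣ bb c x) :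
    htJ D l n c (x + y) = htJ D l n c x + htJ D l n c y := by
  unfold htJ
  rw [lev_add hx, ← map_add]
  rfl

theorem htJ_zero : htJ D l n c 0 = 0 := by
  unfold htJ
  rw [lev_zero]
  exact map_zero (aht D l)

theorem htJ_sum {ι : Type*} (s : Finset ι) (f : ι → Fin l → ℤ) (hf : ∀ i ∈ s, (n : ℤ) ∣ bb c (f i)) :
    htJ D l n c (∑ i ∈ s, f i) = ∑ i ∈ s, htJ D l n c (f i) := by
  classical
  induction s using Finset.induction_on with
  | empty => rw [Finset.sum_empty, Finset.sum_empty, htJ_zero]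
  | insert i s hi ih =>
    rw [Finset.sum_insert hi, Finset.sum_insert hi, htJ_add (hf i (Finset.mem_insert_self i s)),
      ih fun j hj => hf j (Finset.mem_insert_of_mem hj)]

theorem htJ_smul (m : ℤ) {x : Fin l → ℤ} (hx : (n : ℤ) ∣ bb c x) :
    htJ D l n c (m • x) = m * htJ D l n c x := by
  unfold htJ
  have h1 : lev n c (m • x) = m * lev n c x := by
    unfold lev
    rw [map_zsmul, smul_eq_mul, Int.mul_ediv_assoc _ hx]
    ring
  rw [h1, ← smul_eq_mul m (aht D l _), ← map_zsmul]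
  rfl

include K in
theorem one_le_htJ {x : Fin l → ℤ} (hx : SJ hp n c x) : 1 ≤ htJ D l n c x := one_le_aht hp (SJ_pos hp K hx).1

include K in
theorem SJ_dvd {x : Fin l → ℤ} (hx : SJ hp n c x) : (n : ℤ) ∣ bb c x := (dvd_iff_SJ hp K hx.1).2 (Or.inl hx)

include hp K in
theorem htJ_al {j : Option (Fin l)} (hj : ct c c0 j = 0) : htJ D l n c (al D l j) = 1 := by
  have hn : (0 : ℤ) < n := by exact_mod_cast K.pos
  have h1 := (SJ_pos hp K (SJ_al hp K hj)).2
  have h2 : bb c (ea D l j).1 + n * (ea D l j).2 = 0 := by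
    rw [val_eq K.sum]
    refine Finset.sum_eq_zero fun i _ => ?_
    rw [crd_ea]
    by_cases h : j = i
    · subst h
      rw [hj, Nat.cast_zero, mul_zero]
    · rw [if_neg h, zero_mul]
  rw [ea_fst] at h2
  have h3 : lev n c (al D l j) = (ea D l j).2 := by nlinarith
  unfold htJ
  rw [h3]
  have h4 : ((al D l j, (ea D l j).2) : (Fin l → ℤ) × ℤ) = ea D l j := Prod.ext (ea_fst j).symm rfl
  rw [h4, aht_ea]

include K in
/-- the preimage of an element of the base is in the base -/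
theorem exists_al (hθθ : ∀ x, θ (θ' x) = x) (hS : ∀ x, SJ hp n c x → SJ hp n c (θ x))
    (hS' : ∀ x, SJ hp n c x → SJ hp n c (θ' x)) {j : Option (Fin l)} (hj : ct c c0 j = 0) :
    ∃ i, ct c c0 i = 0 ∧ θ' (al D l j) = al D l i := by
  classical
  obtain ⟨m, hm0, hmc, hm⟩ := exists_coef hp K (hS' _ (SJ_al hp K hj))
  set s : Finset (Option (Fin l)) := Finset.univ.filter fun j => ct c c0 j = 0 with hs
  have hmem : ∀ i, i ∈ s ↔ ct c c0 i = 0 := fun i => by rw [hs, Finset.mem_filter]; simp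
  have hm' : θ' (al D l j) = ∑ i ∈ s, m i • al D l i := by
    rw [hm]
    symm
    refine Finset.sum_subset (Finset.subset_univ s) fun i _ hi => ?_
    rw [hmem] at hi
    rw [not_not.1 fun h => hi (hmc i h), zero_smul]
  have hdal : ∀ i ∈ s, (n : ℤ) ∣ bb c (al D l i) := fun i hi => SJ_dvd hp K (SJ_al hp K ((hmem i).1 hi))
  have hdθ : ∀ i ∈ s, (n : ℤ) ∣ bb c (θ (al D l i)) := fun i hi => SJ_dvd hp K (hS _ (SJ_al hp K ((hmem i).1 hi)))
  have h1 : (∑ i ∈ s, m i * htJ D l n c (θ (al D l i))) = 1 := by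
    have e1 : al D l j = ∑ i ∈ s, m i • θ (al D l i) := by
      rw [← hθθ (al D l j), hm', map_sum]
      exact Finset.sum_congr rfl fun i _ => map_zsmul θ _ _
    have e2 := congrArg (htJ D l n c) e1
    rw [htJ_al hp K hj, htJ_sum _ _ fun i hi => by rw [map_zsmul]; exact (hdθ i hi).mul_left _] at e2
    rw [e2]
    exact Finset.sum_congr rfl fun i hi => (htJ_smul (m i) (hdθ i hi)).symm
  have h2 : ∀ i ∈ s, 1 ≤ htJ D l n c (θ (al D l i)) := fun i hi =>
    one_le_htJ hp K (hS _ (SJ_al hp K ((hmem i).1 hi)))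
  have h3 : ∃ i ∈ s, 0 < m i := by
    by_contra h
    push Not at h
    have h4 : (∑ i ∈ s, m i * htJ D l n c (θ (al D l i))) = 0 := Finset.sum_eq_zero fun i hi => by
      rw [le_antisymm (h i hi) (hm0 i), zero_mul]
    omega
  obtain ⟨i, his, hi⟩ := h3
  have hnn : ∀ x ∈ s, 0 ≤ m x * htJ D l n c (θ (al D l x)) := fun x hx =>
    mul_nonneg (hm0 x) (by have := h2 x hx; omega)
  have h5 := Finset.add_sum_erase s (fun i => m i * htJ D l n c (θ (al D l i))) his
  simp only [h1] at h5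
  have h6 : 0 ≤ ∑ x ∈ s.erase i, m x * htJ D l n c (θ (al D l x)) :=
    Finset.sum_nonneg fun x hx => hnn x (Finset.mem_of_mem_erase hx)
  have h7 : 1 ≤ m i * htJ D l n c (θ (al D l i)) := by have := h2 i his; nlinarith
  have h8 : (∑ x ∈ s.erase i, m x * htJ D l n c (θ (al D l x))) = 0 := by omega
  have h9 := (Finset.sum_eq_zero_iff_of_nonneg fun x hx => hnn x (Finset.mem_of_mem_erase hx)).1 h8
  have h10 : m i = 1 := by
    have h11 : m i * htJ D l n c (θ (al D l i)) = 1 := by omega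
    have := h2 i his
    nlinarith
  refine ⟨i, (hmem i).1 his, ?_⟩
  rw [hm', Finset.sum_eq_single i]
  · rw [h10, one_smul]
  · intro x hx hxi
    have h12 := h9 x (Finset.mem_erase.2 ⟨hxi, hx⟩)
    have h13 := (mul_eq_zero.1 h12).resolve_right (by have := h2 x hx; omega)
    rw [h13, zero_smul]
  · intro h
    exact absurd his h

include K in
/-- **`θ` permutes the base of the centralizer.** -/
theorem base_perm (hθθ' : ∀ x, θ' (θ x) = x) (hS : ∀ x, SJ hp n c x → SJ hp n c (θ x))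
    (hS' : ∀ x, SJ hp n c x → SJ hp n c (θ' x)) :
    ∃ π : Equiv.Perm {j : Option (Fin l) // ct c c0 j = 0}, ∀ j, θ (al D l j.1) = al D l (π j).1 := by
  have h1 : ∀ j : {j : Option (Fin l) // ct c c0 j = 0}, ∃ i : {j : Option (Fin l) // ct c c0 j = 0},
      θ (al D l j.1) = al D l i.1 := fun j => by
    obtain ⟨i, hi, e⟩ := exists_al hp K hθθ' hS' hS j.2
    exact ⟨⟨i, hi⟩, e⟩
  choose f hf using h1
  have hinj : Function.Injective f := by
    intro i j hij
    have h4 : θ (al D l i.1) = θ (al D l j.1) := by rw [hf, hf, hij]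
    have h5 := congrArg θ' h4
    rw [hθθ', hθθ'] at h5
    -- `al` is injective on `J`
    have h6 := (SJ_pos hp K (SJ_al hp K i.2)).2
    have hlev : ∀ j : {j : Option (Fin l) // ct c c0 j = 0}, (al D l j.1, lev n c (al D l j.1)) = ea D l j.1 := by
      intro j
      have hn : (0 : ℤ) < n := by exact_mod_cast K.pos
      have h1 := (SJ_pos hp K (SJ_al hp K j.2)).2
      have h2 : bb c (ea D l j.1).1 + n * (ea D l j.1).2 = 0 := by
        rw [val_eq K.sum]
        refine Finset.sum_eq_zero fun i _ => ?_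
        rw [crd_ea]
        by_cases h : j.1 = i
        · subst h
          rw [j.2, Nat.cast_zero, mul_zero]
        · rw [if_neg h, zero_mul]
      rw [ea_fst] at h2
      have h3 : lev n c (al D l j.1) = (ea D l j.1).2 := by nlinarith
      rw [h3]
      exact Prod.ext (ea_fst j.1).symm rfl
    have h7 : ea D l i.1 = ea D l j.1 := by rw [← hlev, ← hlev, h5]
    exact Subtype.ext (ea_inj h7)
  exact ⟨Equiv.ofBijective f (Finite.injective_iff_bijective.1 hinj), hf⟩

end theta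

end Cfsg.Agent.H931.KC
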