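import Cfsg.Agent.H931.KC.Stab

/-!
# Permutations of the extended simple roots (S3509, helper931)

`mk_perm`, `bl_perm` : an element `v` of the Weyl group which permutes the extended simple roots preserves the marks and the form;
`eq_one_of_rigid` : `v = 1` if the extended diagram is rigid (`G₂`, `F₄`, `E₈`): `rigid_G2`, `rigid_F4`, `rigid_E8`;
`stab_one` : the elements of the stabiliser preserving the positive system are trivial for `G₂`, `F₄`, `E₈`.
-/

set_option autoImplicit false
set_option linter.unusedSectionVars false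
set_option maxRecDepth 100000

namespace Cfsg.Agent.H931.KC

open CoxeterSystem Cfsg Cfsg.Lie Cfsg.Lie.ChevalleyDatum
open Cfsg.Agent.ChevalleyStructure Cfsg.Agent.ChevalleyStructure.Elts Cfsg.Agent.ChevalleyStructure.CoxeterGeom
  Cfsg.Agent.ChevalleyStructure.CoxeterGeomTypes Cfsg.Agent.ChevalleyStructure.NPerm
open Cfsg.Agent.Tits.Roots Cfsg.Agent.Tits.Core Cfsg.Agent.Nodes Cfsg.Agent.Nodes.Reps Cfsg.Agent.Nodes.BNOf
  Cfsg.Agent.Nodes.RGDChev Cfsg.Agent.Nodes.Bruhat
open Cfsg.Agent.H129.TorusChar Cfsg.Agent.H129.WData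
open Cfsg.Agent.H92.NE (bl bl_apply bl_comm bl_sr bl_sr_sr FormOK bl_rep)

variable {D : ChevalleyDatum} {l : ℕ} {M : CoxeterMatrix (Fin l)} (hp : IsType D l M)

theorem sum_mk : (∑ j, mk D l j • al D l j) = 0 := by
  rw [Fintype.sum_option]
  have h1 : (∑ i : Fin l, mk D l (some i) • al D l (some i)) = hr D l := (IsMC.eq_sum_sr (hr D l)).symm
  rw [h1]
  show (1 : ℤ) • (-hr D l) + hr D l = 0
  rw [one_smul, neg_add_cancel]

include hp in
theorem mk_pos (j : Option (Fin l)) : 0 < mk D l j := by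
  obtain ⟨Bm, hv, v, C, H⟩ := exists_ok hp
  cases j with
  | none => exact Int.one_pos
  | some i =>
    have h1 := le_hr hp H (isRoot_sr M.toCoxeterSystem hp.isCartan i) i
    rw [sr_self] at h1
    show 0 < hr D l i
    omega

section

variable {v : M.Group} {π : Equiv.Perm (Option (Fin l))}
  (h : ∀ i, rep M.toCoxeterSystem hp.isCartan v (al D l i) = al D l (π i))

include h in
/-- the marks are preserved -/
theorem mk_perm (i : Option (Fin l)) : mk D l (π i) = mk D l i := by
  -- the relation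
  have h1 : (∑ j, mk D l (π.symm j) • al D l j) = 0 := by
    have h2 := congrArg (rep M.toCoxeterSystem hp.isCartan v) (sum_mk (D := D) (l := l))
    rw [map_sum, map_zero] at h2
    rw [← h2, ← Equiv.sum_comp π]
    refine Finset.sum_congr rfl fun j _ => ?_
    rw [π.symm_apply_apply, map_zsmul, h]
  -- the multiple
  have h3 : ∀ i : Fin l, mk D l (π.symm (some i)) = mk D l (π.symm none) * hr D l i := by
    intro i
    have h4 := congrFun h1 i
    rw [Fintype.sum_option] at h4
    have h5 : (∑ j : Fin l, mk D l (π.symm (some j)) • al D l (some j)) = fun j => mk D l (π.symm (some j)) :=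
      (IsMC.eq_sum_sr (fun j => mk D l (π.symm (some j)))).symm
    rw [h5] at h4
    have h6 : mk D l (π.symm none) * (-hr D l i) + mk D l (π.symm (some i)) = 0 := h4
    linear_combination h6
  have h7 : ∀ j, mk D l (π.symm j) = mk D l (π.symm none) * mk D l j := by
    intro j
    cases j with
    | none => exact (mul_one _).symm
    | some i => exact h3 i
  have h8 : (∑ j, mk D l (π.symm j)) = ∑ j, mk D l j := Equiv.sum_comp π.symm fun j => mk D l j
  rw [Finset.sum_congr rfl fun j _ => h7 j, ← Finset.mul_sum] at h8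
  have h9 : 0 < ∑ j, mk D l j := Finset.sum_pos (fun j _ => mk_pos hp j) ⟨none, Finset.mem_univ _⟩
  have h10 : mk D l (π.symm none) = 1 := by nlinarith
  have h11 := h7 (π i)
  rw [π.symm_apply_apply, h10, one_mul] at h11
  exact h11.symm

include h in
/-- the form is preserved -/
theorem bl_perm {Bm : Mat l} (hF : FormOK D l Bm) (i j : Option (Fin l)) :
    bl Bm (al D l (π i)) (al D l (π j)) = bl Bm (al D l i) (al D l j) := by
  rw [← h, ← h, bl_rep hp hF]

/-- the check for rigidity: `o` enumerates the nodes, every node is determined by its mark and the form with the earlier nodes -/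
def Rig (D : ChevalleyDatum) (l : ℕ) (Bm : Mat l) (o : Fin (l + 1) → Option (Fin l)) : Prop :=
  (∀ j, ∃ k, o k = j) ∧ ∀ k y, (mk D l y = mk D l (o k) ∧ ∀ m, m < k → bl Bm (al D l (o m)) (al D l y) =
    bl Bm (al D l (o m)) (al D l (o k))) → y = o k

instance (D : ChevalleyDatum) (l : ℕ) (Bm : Mat l) (o : Fin (l + 1) → Option (Fin l)) : Decidable (Rig D l Bm o) := by
  unfold Rig; infer_instance

include h in
/-- **Rigidity.** -/
theorem eq_one_of_rigid {Bm : Mat l} (hF : FormOK D l Bm) {o : Fin (l + 1) → Option (Fin l)} (hR : Rig D l Bm o) :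
    v = 1 := by
  have h1 : ∀ N : ℕ, ∀ k : Fin (l + 1), (k : ℕ) < N → π (o k) = o k := by
    intro N
    induction N with
    | zero => intro k hk; exact absurd hk (Nat.not_lt_zero _)
    | succ N ih =>
      intro k hk
      refine hR.2 k _ ⟨mk_perm hp h _, fun m hm => ?_⟩
      have h2 := bl_perm hp h hF (o m) (o k)
      rwa [ih m (lt_of_lt_of_le hm (Nat.lt_succ_iff.1 hk))] at h2
  have h3 : ∀ j, π j = j := fun j => by
    obtain ⟨k, rfl⟩ := hR.1 j
    exact h1 (k + 1) k (Nat.lt_succ_self _)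
  refine eq_one_of_fix M.toCoxeterSystem hp.isCartan v fun i => ?_
  have h4 := h (some i)
  rw [h3] at h4
  exact h4

end

theorem rigid_G2 : Rig chevG2 2 ![![2, -3], ![-3, 6]] ![none, some 1, some 0] := by decide +kernel
theorem rigid_F4 : Rig chevF4 4 ![![2, -1, 0, 0], ![-1, 2, -2, 0], ![0, -2, 4, -2], ![0, 0, -2, 4]]
    ![none, some 3, some 2, some 1, some 0] := by decide +kernel
theorem rigid_E8 : Rig chevE8 8 ![![2, 0, -1, 0, 0, 0, 0, 0], ![0, 2, 0, -1, 0, 0, 0, 0], ![-1, 0, 2, -1, 0, 0, 0, 0],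
    ![0, -1, -1, 2, -1, 0, 0, 0], ![0, 0, 0, -1, 2, -1, 0, 0], ![0, 0, 0, 0, -1, 2, -1, 0],
    ![0, 0, 0, 0, 0, -1, 2, -1], ![0, 0, 0, 0, 0, 0, -1, 2]]
    ![none, some 7, some 6, some 5, some 4, some 3, some 2, some 1, some 0] := by decide +kernel

/-- the types with a rigid extended diagram -/
def RigT (D : ChevalleyDatum) : Prop := D = chevG2 ∨ D = chevF4 ∨ D = chevE8

include hp in
theorem exists_rig (hD : RigT D) : ∃ (Bm : Mat l) (o : Fin (l + 1) → Option (Fin l)), FormOK D l Bm ∧ Rig D l Bm o := by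
  have hl : l = D.rank := hp.rank_eq.symm
  rcases hD with h | h | h
  · obtain rfl : l = 2 := by rw [hl, h]; decide +kernel
    subst h
    exact ⟨_, _, ok_G2.1, rigid_G2⟩
  · obtain rfl : l = 4 := by rw [hl, h]; decide +kernel
    subst h
    exact ⟨_, _, ok_F4.1, rigid_F4⟩
  · obtain rfl : l = 8 := by rw [hl, h]; decide +kernel
    subst h
    exact ⟨_, _, ok_E8.1, rigid_E8⟩

/-- **The elements of the stabiliser preserving the positive system are trivial for `G₂`, `F₄`, `E₈`.** -/
theorem stab_one (hD : RigT D) {n : ℕ} {c : Fin l → ℕ} {c0 : ℕ} (K : Kac D l n c c0) {v : M.Group}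
    (hv : ∀ x, (n : ℤ) ∣ bb c (rep M.toCoxeterSystem hp.isCartan v x) - bb c x)
    (hS : ∀ x, SJ hp n c x → SJ hp n c (rep M.toCoxeterSystem hp.isCartan v x)) : v = 1 := by
  obtain ⟨π, h1, -⟩ := diag hp K hv hS
  obtain ⟨Bm, o, hF, hR⟩ := exists_rig hp hD
  exact eq_one_of_rigid hp h1 hF hR

end Cfsg.Agent.H931.KC
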