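import Cfsg.Agent.H931.KC.Tor

/-!
# The stabiliser of a point of the alcove (S3509, helper931)

`b = psi c` with Kac coordinates `c`, `c0` of degree `n`. `al` : the extended simple roots (`none` is `-hr`), `ct` : their
coordinates. If `v` preserves `b` modulo `n` and the positive system `SJ` of the roots in `S = {a | n ∣ b a}` then `v` permutes
the extended simple roots and preserves the coordinates (`diag`).
-/

set_option autoImplicit false
set_option linter.unusedSectionVars false

namespace Cfsg.Agent.H931.KC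

open CoxeterSystem Cfsg Cfsg.Lie Cfsg.Lie.ChevalleyDatum
open Cfsg.Agent.ChevalleyStructure Cfsg.Agent.ChevalleyStructure.Elts Cfsg.Agent.ChevalleyStructure.CoxeterGeom
  Cfsg.Agent.ChevalleyStructure.CoxeterGeomTypes Cfsg.Agent.ChevalleyStructure.NPerm
open Cfsg.Agent.Tits.Roots Cfsg.Agent.Tits.Core Cfsg.Agent.Nodes Cfsg.Agent.Nodes.Reps Cfsg.Agent.Nodes.BNOf
  Cfsg.Agent.Nodes.RGDChev Cfsg.Agent.Nodes.Bruhat
open Cfsg.Agent.H129.TorusChar Cfsg.Agent.H129.WData

variable {D : ChevalleyDatum} {l : ℕ} {M : CoxeterMatrix (Fin l)} (hp : IsType D l M)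

/-- the extended simple roots -/
def al (D : ChevalleyDatum) (l : ℕ) : Option (Fin l) → (Fin l → ℤ)
  | none => -hr D l
  | some i => sr i

/-- the extended coordinates -/
def ct {l : ℕ} (c : Fin l → ℕ) (c0 : ℕ) : Option (Fin l) → ℕ
  | none => c0
  | some i => c i

/-- the extended marks -/
def mk (D : ChevalleyDatum) (l : ℕ) : Option (Fin l) → ℤ
  | none => 1
  | some i => hr D l i

/-- the simple affine roots -/
def ea (D : ChevalleyDatum) (l : ℕ) : Option (Fin l) → (Fin l → ℤ) × ℤ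
  | none => (-hr D l, 1)
  | some i => (sr i, 0)

/-- the coordinates with respect to the simple affine roots -/
def crd (D : ChevalleyDatum) (l : ℕ) (z : (Fin l → ℤ) × ℤ) : Option (Fin l) → ℤ
  | none => z.2
  | some i => z.1 i + z.2 * hr D l i

theorem ea_fst (j : Option (Fin l)) : (ea D l j).1 = al D l j := by cases j <;> rfl

theorem sum_crd (z : (Fin l → ℤ) × ℤ) : (∑ j, crd D l z j • ea D l j) = z := by
  rw [Fintype.sum_option]
  apply Prod.ext
  · rw [Prod.fst_add, Prod.fst_sum]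
    have h1 : (∑ i : Fin l, (crd D l z (some i) • ea D l (some i)).1) = z.1 + z.2 • hr D l := by
      have e : ∀ i : Fin l, (crd D l z (some i) • ea D l (some i)).1 = (z.1 + z.2 • hr D l) i • (sr i : Fin l → ℤ) := fun i => rfl
      rw [Finset.sum_congr rfl fun i _ => e i, ← IsMC.eq_sum_sr]
    rw [h1]
    show z.2 • (-hr D l) + (z.1 + z.2 • hr D l) = z.1
    rw [smul_neg]
    abel
  · rw [Prod.snd_add, Prod.snd_sum]
    have e : ∀ i : Fin l, (crd D l z (some i) • ea D l (some i)).2 = 0 := fun i => by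
      show crd D l z (some i) • (0 : ℤ) = 0
      rw [smul_zero]
    rw [Finset.sum_congr rfl fun i _ => e i, Finset.sum_const_zero, add_zero]
    show z.2 • (1 : ℤ) = z.2
    rw [smul_eq_mul, mul_one]

theorem crd_add (z w : (Fin l → ℤ) × ℤ) (j : Option (Fin l)) : crd D l (z + w) j = crd D l z j + crd D l w j := by
  cases j with
  | none => rfl
  | some i =>
    show (z.1 + w.1) i + (z.2 + w.2) * hr D l i = (z.1 i + z.2 * hr D l i) + (w.1 i + w.2 * hr D l i)
    rw [Pi.add_apply]
    ring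

/-- the height -/
def aht (D : ChevalleyDatum) (l : ℕ) : ((Fin l → ℤ) × ℤ) →+ ℤ := AddMonoidHom.mk' (fun z => ∑ j, crd D l z j) fun z w => by
  rw [← Finset.sum_add_distrib]
  exact Finset.sum_congr rfl fun j _ => crd_add z w j

theorem aht_apply (z : (Fin l → ℤ) × ℤ) : aht D l z = ∑ j, crd D l z j := rfl

theorem crd_ea (i j : Option (Fin l)) : crd D l (ea D l i) j = if i = j then 1 else 0 := by
  cases i with
  | none =>
    cases j with
    | none => rfl
    | some j =>
      show (-hr D l) j + 1 * hr D l j = _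
      rw [Pi.neg_apply, if_neg (by simp)]
      ring
  | some i =>
    cases j with
    | none => rfl
    | some j =>
      show (sr i : Fin l → ℤ) j + 0 * hr D l j = _
      by_cases h : i = j
      · subst h
        rw [sr_self, if_pos rfl, zero_mul, add_zero]
      · rw [sr_ne (Ne.symm h), if_neg (by simpa using h), zero_mul, add_zero]

theorem aht_ea (j : Option (Fin l)) : aht D l (ea D l j) = 1 := by
  classical
  rw [aht_apply, Finset.sum_eq_single j]
  · rw [crd_ea, if_pos rfl]
  · intro i _ hi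
    rw [crd_ea, if_neg (Ne.symm hi)]
  · intro h
    exact absurd (Finset.mem_univ j) h

theorem ea_inj {i j : Option (Fin l)} (h : ea D l i = ea D l j) : i = j := by
  by_contra hij
  have h1 := crd_ea (D := D) i i
  rw [h, crd_ea, if_pos rfl, if_neg (Ne.symm hij)] at h1
  exact zero_ne_one h1

/-- the positive affine roots -/
def Pos (z : (Fin l → ℤ) × ℤ) : Prop := IsRoot M.toCoxeterSystem hp.isCartan z.1 ∧ (0 < z.2 ∨ (z.2 = 0 ∧ 0 ≤ z.1))

theorem pos_ea (j : Option (Fin l)) : Pos hp (ea D l j) := by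
  obtain ⟨Bm, hv, v, C, H⟩ := exists_ok hp
  cases j with
  | none => exact ⟨(isRoot_hr hp H).neg, Or.inl Int.one_pos⟩
  | some i =>
    refine ⟨isRoot_sr _ _ i, Or.inr ⟨rfl, fun j => ?_⟩⟩
    show (0 : ℤ) ≤ (sr i : Fin l → ℤ) j
    by_cases h : i = j
    · subst h; rw [sr_self]; exact zero_le_one
    · rw [sr_ne (Ne.symm h)]

theorem crd_nonneg {z : (Fin l → ℤ) × ℤ} (hz : Pos hp z) (j : Option (Fin l)) : 0 ≤ crd D l z j := by
  obtain ⟨Bm, hv, v, C, H⟩ := exists_ok hp
  obtain ⟨h1, h2⟩ := hz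
  cases j with
  | none =>
    show 0 ≤ z.2
    omega
  | some i =>
    show 0 ≤ z.1 i + z.2 * hr D l i
    rcases h2 with h2 | ⟨h2, h3⟩
    · have h4 := le_hr hp H h1.neg i
      rw [Pi.neg_apply] at h4
      have h5 := le_hr hp H h1 i
      have h6 : 0 ≤ hr D l i := by omega
      nlinarith
    · have := h3 i
      rw [h2, zero_mul, add_zero]
      exact this

theorem one_le_aht {z : (Fin l → ℤ) × ℤ} (hz : Pos hp z) : 1 ≤ aht D l z := by
  have h0 : ∀ j, 0 ≤ crd D l z j := crd_nonneg hp hz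
  by_contra h
  have h1 : (∑ j, crd D l z j) = 0 := le_antisymm (by rw [← aht_apply]; omega) (Finset.sum_nonneg fun j _ => h0 j)
  have h2 := (Finset.sum_eq_zero_iff_of_nonneg fun j _ => h0 j).1 h1
  have h3 : z = 0 := by
    rw [← sum_crd (D := D) z]
    exact Finset.sum_eq_zero fun j hj => by rw [h2 j hj, zero_smul]
  refine hz.1.ne_zero ?_
  rw [h3]
  rfl

/-- **Positive affine maps permute the simple affine roots.** -/
theorem exists_ea {G G' : ((Fin l → ℤ) × ℤ) →+ ((Fin l → ℤ) × ℤ)} (hGG : ∀ z, G (G' z) = z)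
    (hG : ∀ z, Pos hp z → Pos hp (G z)) (hG' : ∀ z, Pos hp z → Pos hp (G' z)) (j : Option (Fin l)) :
    ∃ i, G' (ea D l j) = ea D l i := by
  classical
  set y := G' (ea D l j) with hy
  have h0 := crd_nonneg hp (hG' _ (pos_ea hp j))
  rw [← hy] at h0
  have h1 : (∑ i, crd D l y i * aht D l (G (ea D l i))) = 1 := by
    have e1 : G y = ea D l j := by rw [hy, hGG]
    have e2 := congrArg (fun z => aht D l (G z)) (sum_crd (D := D) y)
    simp only [e1, aht_ea, map_sum, map_zsmul, smul_eq_mul] at e2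
    exact e2
  have h2 : ∀ i, 1 ≤ aht D l (G (ea D l i)) := fun i => one_le_aht hp (hG _ (pos_ea hp i))
  -- some coordinate is positive
  have h3 : ∃ i, 0 < crd D l y i := by
    by_contra h
    push Not at h
    have h4 : (∑ i, crd D l y i * aht D l (G (ea D l i))) = 0 := Finset.sum_eq_zero fun i _ => by
      rw [le_antisymm (h i) (h0 i), zero_mul]
    omega
  obtain ⟨i, hi⟩ := h3
  have hnn : ∀ i ∈ Finset.univ, 0 ≤ crd D l y i * aht D l (G (ea D l i)) := fun i _ =>
    mul_nonneg (h0 i) (by have := h2 i; omega)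
  have h5 := Finset.add_sum_erase Finset.univ (fun i => crd D l y i * aht D l (G (ea D l i))) (Finset.mem_univ i)
  simp only [h1] at h5
  have h6 : 0 ≤ ∑ x ∈ Finset.univ.erase i, crd D l y x * aht D l (G (ea D l x)) :=
    Finset.sum_nonneg fun x _ => hnn x (Finset.mem_univ x)
  have h7 : 1 ≤ crd D l y i * aht D l (G (ea D l i)) := by have := h2 i; nlinarith
  have h8 : (∑ x ∈ Finset.univ.erase i, crd D l y x * aht D l (G (ea D l x))) = 0 := by omega
  have h9 := (Finset.sum_eq_zero_iff_of_nonneg fun x _ => hnn x (Finset.mem_univ x)).1 h8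
  have h10 : crd D l y i = 1 := by
    have h11 : crd D l y i * aht D l (G (ea D l i)) = 1 := by omega
    have := h2 i
    nlinarith
  refine ⟨i, ?_⟩
  rw [← sum_crd (D := D) y, Finset.sum_eq_single i]
  · rw [h10, one_smul]
  · intro x _ hx
    have h12 := h9 x (Finset.mem_erase.2 ⟨hx, Finset.mem_univ x⟩)
    have h13 := (mul_eq_zero.1 h12).resolve_right (by have := h2 x; omega)
    rw [h13, zero_smul]
  · intro h
    exact absurd (Finset.mem_univ i) h

section stab

variable {n : ℕ} {c : Fin l → ℕ} {c0 : ℕ} (K : Kac D l n c c0)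

/-- the functional -/
def bb {l : ℕ} (c : Fin l → ℕ) : (Fin l → ℤ) →+ ℤ := psi fun i => (c i : ℤ)

/-- the positive system of the roots of the centralizer -/
def SJ (n : ℕ) (c : Fin l → ℕ) (x : Fin l → ℤ) : Prop :=
  IsRoot M.toCoxeterSystem hp.isCartan x ∧ ((bb c x = 0 ∧ 0 ≤ x) ∨ bb c x = -n)

theorem bb_nonneg {x : Fin l → ℤ} (hx : 0 ≤ x) : 0 ≤ bb c x := by
  show 0 ≤ ∑ i, x i * (c i : ℤ)
  exact Finset.sum_nonneg fun i _ => mul_nonneg (hx i) (Int.natCast_nonneg _)

include K in
theorem bb_hr : bb c (hr D l) = n - c0 := by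
  have h1 := K.sum
  show (∑ i, hr D l i * (c i : ℤ)) = n - c0
  omega

include K in
theorem bb_le {x : Fin l → ℤ} (hx : IsRoot M.toCoxeterSystem hp.isCartan x) : bb c x ≤ n := by
  obtain ⟨Bm, hv, v, C, H⟩ := exists_ok hp
  have h1 : bb c x ≤ bb c (hr D l) := by
    show (∑ i, x i * (c i : ℤ)) ≤ ∑ i, hr D l i * (c i : ℤ)
    exact Finset.sum_le_sum fun i _ => mul_le_mul_of_nonneg_right (le_hr hp H hx i) (Int.natCast_nonneg _)
  rw [bb_hr K] at h1
  have : (0 : ℤ) ≤ c0 := by positivity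
  omega

include K in
/-- the value of a positive affine root is nonnegative -/
theorem val_nonneg {z : (Fin l → ℤ) × ℤ} (hz : Pos hp z) : 0 ≤ bb c z.1 + n * z.2 := by
  obtain ⟨h1, h2⟩ := hz
  have hn : (0 : ℤ) < n := by exact_mod_cast K.pos
  rcases h2 with h2 | ⟨h2, h3⟩
  · have h4 := bb_le hp K h1.neg
    rw [map_neg] at h4
    nlinarith
  · rw [h2, mul_zero, add_zero]
    exact bb_nonneg h3

theorem neg_of_not {x : Fin l → ℤ} (hx : IsRoot M.toCoxeterSystem hp.isCartan x) (h : ¬ 0 ≤ x) : 0 ≤ -x := by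
  rcases hx.pos_or_neg with h1 | h1
  · exact absurd h1 h
  · exact neg_nonneg.2 h1

include K in
/-- a positive affine root of value zero -/
theorem SJ_of_val {z : (Fin l → ℤ) × ℤ} (hz : Pos hp z) (h : bb c z.1 + n * z.2 = 0) : SJ hp n c z.1 := by
  obtain ⟨h1, h2⟩ := hz
  have hn : (0 : ℤ) < n := by exact_mod_cast K.pos
  refine ⟨h1, ?_⟩
  rcases h2 with h2 | ⟨h2, h3⟩
  · right
    have h4 := bb_le hp K h1.neg
    rw [map_neg] at h4
    have h5 : z.2 = 1 := by nlinarith
    rw [h5] at h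
    omega
  · left
    rw [h2, mul_zero, add_zero] at h
    exact ⟨h, h3⟩

include K in
/-- an affine root of nonnegative value which is positive if the value is zero -/
theorem pos_of_val {z : (Fin l → ℤ) × ℤ} (h1 : IsRoot M.toCoxeterSystem hp.isCartan z.1)
    (h2 : 0 ≤ bb c z.1 + n * z.2) (h3 : bb c z.1 + n * z.2 = 0 → SJ hp n c z.1) : Pos hp z := by
  have hn : (0 : ℤ) < n := by exact_mod_cast K.pos
  refine ⟨h1, ?_⟩
  by_contra h
  push Not at h
  obtain ⟨h4, h5⟩ := h
  rcases h4.lt_or_eq with h6 | h6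
  · have h7 := bb_le hp K h1
    have h8 : bb c z.1 + n * z.2 = 0 := by nlinarith
    obtain ⟨-, h9 | h9⟩ := h3 h8
    · rw [h9.1, zero_add] at h8
      rcases mul_eq_zero.1 h8 with h10 | h10 <;> omega
    · rw [h9] at h8
      nlinarith
  · have h7 : 0 ≤ -z.1 := neg_of_not hp h1 (h5 h6)
    have h8 := bb_nonneg (c := c) h7
    rw [map_neg] at h8
    rw [h6, mul_zero, add_zero] at h2 h3
    have h9 : bb c z.1 = 0 := by omega
    obtain ⟨-, h10 | h10⟩ := h3 h9
    · exact h5 h6 h10.2
    · rw [h9] at h10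
      omega

/-- the affine map -/
noncomputable def aff (v : M.Group) (μ : (Fin l → ℤ) →+ ℤ) : ((Fin l → ℤ) × ℤ) →+ ((Fin l → ℤ) × ℤ) where
  toFun z := (rep M.toCoxeterSystem hp.isCartan v z.1, z.2 - μ z.1)
  map_zero' := by
    show (rep M.toCoxeterSystem hp.isCartan v 0, (0 : ℤ) - μ 0) = 0
    rw [map_zero, map_zero, sub_zero]
    rfl
  map_add' z w := by
    apply Prod.ext
    · exact map_add _ z.1 w.1
    · show z.2 + w.2 - μ (z.1 + w.1) = (z.2 - μ z.1) + (w.2 - μ w.1)
      rw [map_add]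
      ring

include K in
theorem aff_pos {v : M.Group} {μ : (Fin l → ℤ) →+ ℤ}
    (hμ : ∀ x, bb c (rep M.toCoxeterSystem hp.isCartan v x) = bb c x + n * μ x)
    (hS : ∀ x, SJ hp n c x → SJ hp n c (rep M.toCoxeterSystem hp.isCartan v x)) (z : (Fin l → ℤ) × ℤ)
    (hz : Pos hp z) : Pos hp (aff hp v μ z) := by
  have e : bb c (aff hp v μ z).1 + n * (aff hp v μ z).2 = bb c z.1 + n * z.2 := by
    show bb c (rep M.toCoxeterSystem hp.isCartan v z.1) + n * (z.2 - μ z.1) = _
    rw [hμ]
    ring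
  refine pos_of_val hp K (hz.1.act v) (by rw [e]; exact val_nonneg hp K hz) fun h => ?_
  rw [e] at h
  exact hS _ (SJ_of_val hp K hz h)

theorem exists_mu {v : M.Group} (hv : ∀ x, (n : ℤ) ∣ bb c (rep M.toCoxeterSystem hp.isCartan v x) - bb c x) :
    ∃ μ : (Fin l → ℤ) →+ ℤ, ∀ x, bb c (rep M.toCoxeterSystem hp.isCartan v x) = bb c x + n * μ x := by
  choose m hm using fun i : Fin l => hv (sr i)
  refine ⟨psi m, fun x => ?_⟩
  have h1 := eq_psi ((bb c).comp (rep M.toCoxeterSystem hp.isCartan v).toAddMonoidHom) x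
  have h2 : (bb c).comp (rep M.toCoxeterSystem hp.isCartan v).toAddMonoidHom x =
    bb c (rep M.toCoxeterSystem hp.isCartan v x) := rfl
  rw [← h2, h1, eq_psi (bb c) x, psi_apply, Finset.mul_sum, ← Finset.sum_add_distrib]
  refine Finset.sum_congr rfl fun i _ => ?_
  have h3 : (bb c).comp (rep M.toCoxeterSystem hp.isCartan v).toAddMonoidHom (sr i) =
    bb c (rep M.toCoxeterSystem hp.isCartan v (sr i)) := rfl
  rw [h3]
  linear_combination x i * hm i

/-- the inverse preserves the positive system -/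
theorem SJ_inv {v : M.Group} (hS : ∀ x, SJ hp n c x → SJ hp n c (rep M.toCoxeterSystem hp.isCartan v x)) (x : Fin l → ℤ)
    (hx : SJ hp n c x) : SJ hp n c (rep M.toCoxeterSystem hp.isCartan v⁻¹ x) := by
  have hfin : Finite M.Group := finite_W hp M.toCoxeterSystem
  obtain ⟨k, hk, hvk⟩ : ∃ k, 0 < k ∧ v ^ k = 1 := ⟨orderOf v, orderOf_pos v, pow_orderOf_eq_one v⟩
  have h1 : v⁻¹ = v ^ (k - 1) := by
    rw [inv_eq_iff_mul_eq_one, ← pow_succ', Nat.sub_add_cancel hk, hvk]
  rw [h1]
  clear h1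
  induction (k - 1) with
  | zero => rw [pow_zero, map_one, Module.End.one_apply]; exact hx
  | succ m ih =>
    rw [pow_succ', rep_mul_apply]
    exact hS _ ih

include K in
/-- **The elements of the stabiliser which preserve the positive system permute the extended simple roots.** -/
theorem diag {v : M.Group} (hv : ∀ x, (n : ℤ) ∣ bb c (rep M.toCoxeterSystem hp.isCartan v x) - bb c x)
    (hS : ∀ x, SJ hp n c x → SJ hp n c (rep M.toCoxeterSystem hp.isCartan v x)) :
    ∃ π : Equiv.Perm (Option (Fin l)), (∀ i, rep M.toCoxeterSystem hp.isCartan v (al D l i) = al D l (π i)) ∧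
      ∀ i, ct c c0 (π i) = ct c c0 i := by
  obtain ⟨μ, hμ⟩ := exists_mu hp hv
  have hv' : ∀ x, (n : ℤ) ∣ bb c (rep M.toCoxeterSystem hp.isCartan v⁻¹ x) - bb c x := fun x => by
    have h1 := hv (rep M.toCoxeterSystem hp.isCartan v⁻¹ x)
    rw [rep_apply_inv] at h1
    rw [← dvd_neg, neg_sub]
    exact h1
  obtain ⟨μ', hμ'⟩ := exists_mu hp hv'
  have hn : (n : ℤ) ≠ 0 := by have := K.pos; positivity
  have hm1 : ∀ x, μ' x + μ (rep M.toCoxeterSystem hp.isCartan v⁻¹ x) = 0 := fun x => by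
    have h1 := hμ (rep M.toCoxeterSystem hp.isCartan v⁻¹ x)
    rw [rep_apply_inv, hμ'] at h1
    have h2 : (n : ℤ) * (μ' x + μ (rep M.toCoxeterSystem hp.isCartan v⁻¹ x)) = 0 := by linear_combination -h1
    exact (mul_eq_zero.1 h2).resolve_left hn
  have hm2 : ∀ x, μ x + μ' (rep M.toCoxeterSystem hp.isCartan v x) = 0 := fun x => by
    have h1 := hm1 (rep M.toCoxeterSystem hp.isCartan v x)
    rw [rep_inv_apply] at h1
    omega
  have h1 : ∀ z, aff hp v μ (aff hp v⁻¹ μ' z) = z := fun z => by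
    apply Prod.ext
    · exact rep_apply_inv _ _ _ _
    · show z.2 - μ' z.1 - μ (rep M.toCoxeterSystem hp.isCartan v⁻¹ z.1) = z.2
      have := hm1 z.1
      omega
  have h2 : ∀ z, aff hp v⁻¹ μ' (aff hp v μ z) = z := fun z => by
    apply Prod.ext
    · exact rep_inv_apply _ _ _ _
    · show z.2 - μ z.1 - μ' (rep M.toCoxeterSystem hp.isCartan v z.1) = z.2
      have := hm2 z.1
      omega
  have hS' := SJ_inv hp hS
  have h3 := exists_ea hp h2 (aff_pos hp K hμ' hS') (aff_pos hp K hμ hS)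
  choose f hf using h3
  have hinj : Function.Injective f := by
    intro i j hij
    have h4 : aff hp v μ (ea D l i) = aff hp v μ (ea D l j) := by rw [hf, hf, hij]
    have h5 := congrArg (aff hp v⁻¹ μ') h4
    rw [h2, h2] at h5
    exact ea_inj h5
  refine ⟨Equiv.ofBijective f (Finite.injective_iff_bijective.1 hinj), fun i => ?_, fun i => ?_⟩
  · have h4 := congrArg Prod.fst (hf i)
    rw [ea_fst] at h4
    rw [Equiv.ofBijective_apply, ← h4, ← ea_fst]
    rfl
  · rw [Equiv.ofBijective_apply]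
    have hval : ∀ j, bb c (ea D l j).1 + n * (ea D l j).2 = ct c c0 j := by
      intro j
      cases j with
      | none =>
        show bb c (-hr D l) + n * 1 = c0
        rw [map_neg, bb_hr K]
        ring
      | some j =>
        show bb c (sr j) + n * 0 = c j
        unfold bb
        rw [psi_sr]
        ring
    have h4 := hval (f i)
    rw [← hf i] at h4
    have h5 : bb c (aff hp v μ (ea D l i)).1 + n * (aff hp v μ (ea D l i)).2 = bb c (ea D l i).1 + n * (ea D l i).2 := by
      show bb c (rep M.toCoxeterSystem hp.isCartan v (ea D l i).1) + n * ((ea D l i).2 - μ (ea D l i).1) = _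
      rw [hμ]
      ring
    rw [h5, hval i] at h4
    exact_mod_cast h4.symm

end stab

end Cfsg.Agent.H931.KC
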